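import Cfsg.Agent.Lib.CoThreeInvol.Model
import Mathlib.Algebra.Group.ConjFinite

/-!
A subgroup isomorphic to the coded Co3 that contains the centraliser, of order 2903040, of one of its
involutions is the whole group.
-/

set_option autoImplicit false
set_option maxRecDepth 100000

namespace Cfsg.Agent.CoThreeInvol

open Cfsg.Agent.PermCert

attribute [local irreducible] zM aM mM yM fM CZ CV SporPerm.co3Gens

section Counting

variable {G : Type*} [Group G] [Finite G]

theorem card_conj_mul (t : G) :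
    Nat.card {x : G // IsConj t x} * Nat.card (Subgroup.centralizer ({t} : Set G)) = Nat.card G := by
  rw [← Subgroup.card_mul_index (Subgroup.centralizer ({t} : Set G)), mul_comm, Nat.mul_right_inj Nat.card_pos.ne',
    Subgroup.index_eq_card]
  refine Nat.card_congr ?_
  refine Equiv.trans ?_ ((MulAction.orbitEquivQuotientStabilizer (ConjAct G) t).trans (Subgroup.quotientEquivOfEq ?_))
  · exact Equiv.subtypeEquivRight fun x => by
      rw [ConjAct.mem_orbit_conjAct]; exact ⟨IsConj.symm, IsConj.symm⟩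
  · ext g; simp [MulAction.mem_stabilizer_iff, Subgroup.mem_centralizer_singleton_iff, ConjAct.smul_def,
      mul_inv_eq_iff_eq_mul]
    exact Subgroup.mem_centralizer_singleton_iff.symm

theorem mem_cent_conj {a x g : G} :
    g ∈ Subgroup.centralizer ({a * x * a⁻¹} : Set G) ↔ a⁻¹ * g * a ∈ Subgroup.centralizer ({x} : Set G) := by
  simp only [Subgroup.mem_centralizer_singleton_iff]
  constructor <;> intro h
  · calc a⁻¹ * g * a * x = a⁻¹ * (g * (a * x * a⁻¹)) * a := by group
      _ = a⁻¹ * (a * x * a⁻¹ * g) * a := by rw [h]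
      _ = x * (a⁻¹ * g * a) := by group
  · calc g * (a * x * a⁻¹) = a * (a⁻¹ * g * a * x) * a⁻¹ := by group
      _ = a * (x * (a⁻¹ * g * a)) * a⁻¹ := by rw [h]
      _ = a * x * a⁻¹ * g := by group

theorem card_cent_conj (a x : G) :
    Nat.card (Subgroup.centralizer ({a * x * a⁻¹} : Set G)) = Nat.card (Subgroup.centralizer ({x} : Set G)) :=
  Nat.card_congr ⟨fun g => ⟨a⁻¹ * g * a, mem_cent_conj.1 g.2⟩,
    fun g => ⟨a * g * a⁻¹, mem_cent_conj.2 (by simpa [mul_assoc] using g.2)⟩,
    fun g => Subtype.ext (by simp [mul_assoc]), fun g => Subtype.ext (by simp [mul_assoc])⟩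

/-- A proper subgroup with small fibres over the other cosets meets a set in too few elements. -/
theorem coset_count (H : Subgroup G) {I : Type*} [Finite I] (v : I → G) (m : ℕ)
    (h0 : Nat.card {x : I // v x ∈ H} ≤ m) (hI : Nat.card I = m * H.index) (hm : 0 < m)
    (small : ∀ j : I, v j ∉ H → Nat.card {x : I // v x * (v j)⁻¹ ∈ H} < m) : H = ⊤ := by
  classical
  by_contra hH
  let π : I → Quotient (QuotientGroup.rightRel H) := fun x => Quotient.mk _ (v x)
  have hπ : ∀ x y : I, π x = π y ↔ v y * (v x)⁻¹ ∈ H := fun x y => by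
    rw [Quotient.eq, QuotientGroup.rightRel_apply]
  haveI : Fintype (Quotient (QuotientGroup.rightRel H)) := Fintype.ofFinite _
  haveI : Fintype I := Fintype.ofFinite _
  have hQ : Fintype.card (Quotient (QuotientGroup.rightRel H)) = H.index := by
    rw [← Nat.card_eq_fintype_card, Nat.card_congr (QuotientGroup.quotientRightRelEquivQuotientLeftRel H)]; rfl
  have hindex : 2 ≤ H.index := by
    have h0 := H.index_ne_zero_of_finite
    have : H.index ≠ 1 := fun e => hH (Subgroup.index_eq_one.1 e)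
    omega
  let q₀ : Quotient (QuotientGroup.rightRel H) := Quotient.mk _ 1
  have hsum : Nat.card I = ∑ q, Nat.card {x : I // π x = q} := by
    rw [← Nat.card_sigma, Nat.card_congr (Equiv.sigmaFiberEquiv π)]
  rw [← Finset.add_sum_erase _ _ (Finset.mem_univ q₀), hI] at hsum
  have hq₀ : Nat.card {x : I // π x = q₀} ≤ m := by
    refine (Nat.card_congr (Equiv.subtypeEquivRight fun x => ?_)).trans_le h0
    rw [Quotient.eq, QuotientGroup.rightRel_apply, one_mul, inv_mem_iff]
  have hle : ∀ q ∈ Finset.univ.erase q₀, Nat.card {x : I // π x = q} ≤ m - 1 := by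
    intro q hq
    rcases isEmpty_or_nonempty {x : I // π x = q} with he | ⟨⟨j, hj⟩⟩
    · simp [Nat.card_of_isEmpty]
    · have hjH : v j ∉ H := fun hm' => Finset.ne_of_mem_erase hq (hj ▸ (by
        rw [Quotient.eq, QuotientGroup.rightRel_apply, one_mul]; exact H.inv_mem hm'))
      refine Nat.le_sub_one_of_lt ((Nat.card_congr (Equiv.subtypeEquivRight fun x => ?_)).trans_lt (small j hjH))
      rw [← hj, eq_comm, hπ]
  have hbound := Finset.sum_le_card_nsmul _ _ _ hle
  rw [Finset.card_erase_of_mem (Finset.mem_univ _), Finset.card_univ, hQ, smul_eq_mul] at hbound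
  obtain ⟨k, hk⟩ : ∃ k, H.index = k + 2 := ⟨H.index - 2, by omega⟩
  obtain ⟨n, rfl⟩ : ∃ n, m = n + 1 := ⟨m - 1, by omega⟩
  rw [hk] at hsum hbound
  simp only [Nat.add_sub_cancel, show k + 2 - 1 = k + 1 by omega] at hbound hsum
  nlinarith

end Counting

section Embedded

variable {G : Type*} [Group G] [Finite G] {H : Subgroup G} (f : ↥MC →* G) (finj : Function.Injective f)
  (fmem : ∀ σ, f σ ∈ H) (fsurj : ∀ x ∈ H, ∃ σ, f σ = x)

include finj fmem fsurj in
/-- Centralisers inside the subgroup. -/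
theorem card_local (σ : ↥MC) : Nat.card ↥(H ⊓ Subgroup.centralizer ({f σ} : Set G)) =
    Nat.card ↥(MC ⊓ Subgroup.centralizer ({(σ : Pm)} : Set Pm)) := by
  have hm : ∀ τ : ↥(MC ⊓ Subgroup.centralizer ({(σ : Pm)} : Set Pm)),
      f ⟨τ.1, τ.2.1⟩ ∈ H ⊓ Subgroup.centralizer ({f σ} : Set G) := by
    intro τ
    refine ⟨fmem _, Subgroup.mem_centralizer_singleton_iff.2 ?_⟩
    rw [← map_mul, ← map_mul]
    exact congrArg f (Subtype.ext (Subgroup.mem_centralizer_singleton_iff.1 τ.2.2))
  refine (Nat.card_eq_of_bijective (fun τ => ⟨f ⟨τ.1, τ.2.1⟩, hm τ⟩) ⟨?_, ?_⟩).symm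
  · intro a b e
    exact Subtype.ext (congrArg Subtype.val (finj (congrArg Subtype.val e)) :)
  · rintro ⟨x, hx, hxc⟩
    obtain ⟨τ, rfl⟩ := fsurj x hx
    refine ⟨⟨τ, τ.2, Subgroup.mem_centralizer_singleton_iff.2 ?_⟩, Subtype.ext rfl⟩
    have h := Subgroup.mem_centralizer_singleton_iff.1 hxc
    rw [← map_mul, ← map_mul] at h
    exact congrArg Subtype.val (finj h)

include finj fmem fsurj in
theorem card_local_z {σ : ↥MC} {a : Pm} (ha : a ∈ MC) (h : a * (σ : Pm) * a⁻¹ = zM) :
    Nat.card ↥(H ⊓ Subgroup.centralizer ({f σ} : Set G)) = 190080 := by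
  rw [card_local f finj fmem fsurj, ← card_CZ]
  refine Nat.card_congr ⟨fun g => ⟨a * g * a⁻¹, mem_CZ.2 ⟨MC.mul_mem (MC.mul_mem ha g.2.1) (MC.inv_mem ha), ?_⟩⟩,
    fun g => ⟨a⁻¹ * g * a, MC.mul_mem (MC.mul_mem (MC.inv_mem ha) (mem_CZ.1 g.2).1) ha, ?_⟩,
    fun g => Subtype.ext (by simp [mul_assoc]), fun g => Subtype.ext (by simp [mul_assoc])⟩
  · rw [← Subgroup.mem_centralizer_singleton_iff, ← h]
    exact mem_cent_conj.2 (by simpa [mul_assoc] using g.2.2)
  · refine mem_cent_conj.1 ?_
    rw [h, Subgroup.mem_centralizer_singleton_iff]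
    exact (mem_CZ.1 g.2).2

theorem isA_of_conj {σ a : Pm} (h : a * σ * a⁻¹ = aM) : IsA σ := by
  have := isA_conj aM_isA a⁻¹
  rwa [show a⁻¹ * aM * a⁻¹⁻¹ = σ by rw [← h]; group] at this

theorem not_isA_of_conj {σ a : Pm} (h : a * σ * a⁻¹ = zM) : ¬ IsA σ := fun hA => by
  have := (isA_conj hA a).2
  rw [h, zM_fix] at this
  omega

theorem exists_conj_of_isA {σ τ : ↥MC} (hσ : IsA σ) (hτ : IsA τ) : ∃ c : ↥MC, c * σ * c⁻¹ = τ := by
  rcases invol_cases σ.2 hσ.1 (ne_one_of_isA hσ) with ⟨a, ha, h⟩ | ⟨a, -, h⟩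
  swap
  · exact absurd hσ (not_isA_of_conj h)
  rcases invol_cases τ.2 hτ.1 (ne_one_of_isA hτ) with ⟨b, hb, h'⟩ | ⟨b, -, h'⟩
  swap
  · exact absurd hτ (not_isA_of_conj h')
  refine ⟨⟨b⁻¹ * a, mul_mem (inv_mem hb) ha⟩, Subtype.ext ?_⟩
  show b⁻¹ * a * (σ : Pm) * (b⁻¹ * a)⁻¹ = τ
  calc _ = b⁻¹ * (a * (σ : Pm) * a⁻¹) * b := by group
    _ = b⁻¹ * (b * (τ : Pm) * b⁻¹) * b := by rw [h, ← h']
    _ = _ := by group

include finj fmem fsurj in
theorem top_of_embed (t : G) (ht : orderOf t = 2) (hC : Subgroup.centralizer ({t} : Set G) ≤ H)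
    (hcard : Nat.card (Subgroup.centralizer ({t} : Set G)) = 2903040) : H = ⊤ := by
  classical
  have t2 : t * t = 1 := by rw [← pow_two, ← ht, pow_orderOf_eq_one]
  have t1 : t ≠ 1 := fun e => by rw [e, orderOf_one] at ht; exact absurd ht (by norm_num)
  have invol : ∀ x : G, ∀ σ : ↥MC, f σ = x → x * x = 1 → x ≠ 1 → (σ : Pm) * σ = 1 ∧ (σ : Pm) ≠ 1 := by
    intro x σ hσ h2 h1
    exact ⟨congrArg Subtype.val (finj (show f (σ * σ) = f 1 by rw [map_mul, map_one, hσ, h2])),
      fun e => h1 (by rw [← hσ, show σ = 1 from Subtype.ext e, map_one])⟩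
  obtain ⟨σt, hσt⟩ := fsurj t (hC (Subgroup.mem_centralizer_singleton_iff.2 rfl))
  have hAt : IsA (σt : Pm) := by
    obtain ⟨h2, h1⟩ := invol t σt hσt t2 t1
    rcases invol_cases σt.2 h2 h1 with ⟨a, -, h⟩ | ⟨a, ha, h⟩
    · exact isA_of_conj h
    · have := card_local_z f finj fmem fsurj ha h
      rw [hσt, inf_eq_right.2 hC, hcard] at this
      exact absurd this (by norm_num)
  have hY : ∀ σ : ↥MC, IsA σ → Subgroup.centralizer ({f σ} : Set G) ≤ H ∧
      Nat.card (Subgroup.centralizer ({f σ} : Set G)) = 2903040 := by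
    intro σ hσ
    obtain ⟨c, rfl⟩ := exists_conj_of_isA hAt hσ
    rw [map_mul, map_mul, map_inv, hσt]
    refine ⟨fun g hg => ?_, by rw [card_cent_conj, hcard]⟩
    have h := hC (mem_cent_conj.1 hg)
    have := mul_mem (mul_mem (fmem c) h) (inv_mem (fmem c))
    simpa [mul_assoc] using this
  -- the key lemma
  have embedded : ∀ (g : G) (σ : ↥MC), IsA σ → g * f σ * g⁻¹ ∈ H → g ∈ H := by
    intro g σ hσ hg
    obtain ⟨τ, hτ⟩ := fsurj _ hg
    have hs : f σ * f σ = 1 := by rw [← map_mul, show σ * σ = 1 from Subtype.ext hσ.1, map_one]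
    obtain ⟨h2, h1⟩ := invol _ τ hτ (by rw [conj_mul, hs]; group) (fun e => ne_one_of_isA hσ (congrArg Subtype.val
      (finj ((conj_eq_one_iff.1 e).trans (map_one f).symm))))
    rcases invol_cases τ.2 h2 h1 with ⟨a, -, h⟩ | ⟨a, ha, h⟩
    · obtain ⟨c, hc⟩ := exists_conj_of_isA hσ (isA_of_conj h)
      have hm : (f c)⁻¹ * g ∈ H := (hY σ hσ).1 (Subgroup.mem_centralizer_singleton_iff.2 (by
        have e : g * f σ * g⁻¹ = f c * f σ * (f c)⁻¹ := by rw [← hτ, ← hc]; simp
        calc (f c)⁻¹ * g * f σ = (f c)⁻¹ * (g * f σ * g⁻¹) * g := by group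
          _ = (f c)⁻¹ * (f c * f σ * (f c)⁻¹) * g := by rw [e]
          _ = f σ * ((f c)⁻¹ * g) := by group))
      simpa [← mul_assoc] using mul_mem (fmem c) hm
    · have hd : Nat.card ↥(H ⊓ Subgroup.centralizer ({f τ} : Set G)) ∣
          Nat.card (Subgroup.centralizer ({f τ} : Set G)) := Subgroup.card_dvd_of_le inf_le_right
      rw [card_local_z f finj fmem fsurj ha h, hτ, card_cent_conj, (hY σ hσ).2] at hd
      exact absurd hd (by norm_num)
  have notA : ∀ (g : G) (σ τ : ↥MC), IsA σ → g * f σ * g⁻¹ = f τ → IsA τ := by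
    intro g σ τ hσ e
    obtain ⟨c, rfl⟩ := fsurj g (embedded g σ hσ (e ▸ fmem τ))
    have hτ : c * σ * c⁻¹ = τ := finj (by rw [map_mul, map_mul, map_inv]; exact e)
    rw [← hτ]
    exact isA_conj hσ c
  -- the two central involutions and the one with thirty-six fixed points
  let zH : ↥MC := ⟨zM, zM_spec.1⟩
  let mH : ↥MC := ⟨mM, mM_spec.1⟩
  let yH : ↥MC := ⟨yM, yM_spec.1⟩
  have hyA : IsA (yH : Pm) := yM_isA
  obtain ⟨u, hu⟩ : ∃ u, f zH = u := ⟨_, rfl⟩
  obtain ⟨v, hv⟩ : ∃ v, f mH = v := ⟨_, rfl⟩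
  obtain ⟨y, hy⟩ : ∃ y, f yH = y := ⟨_, rfl⟩
  have u2 : u * u = 1 := by rw [← hu, ← map_mul, show zH * zH = 1 from Subtype.ext zM_sq, map_one]
  have v2 : v * v = 1 := by rw [← hv, ← map_mul, show mH * mH = 1 from Subtype.ext mM_sq, map_one]
  have y2 : y * y = 1 := by rw [← hy, ← map_mul, show yH * yH = 1 from Subtype.ext yM_isA.1, map_one]
  have hvu : v * u = u * v := by rw [← hv, ← hu, ← map_mul, ← map_mul]; exact congrArg f (Subtype.ext mz_comm)
  have hyu : y * u = u * y := by rw [← hy, ← hu, ← map_mul, ← map_mul]; exact congrArg f (Subtype.ext yz_comm)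
  have hyv : y * v = v * y := by rw [← hy, ← hv, ← map_mul, ← map_mul]; exact congrArg f (Subtype.ext ym_comm)
  let X := Subgroup.centralizer ({u} : Set G)
  have memX : ∀ {g : G}, g ∈ X ↔ g * u = u * g := Subgroup.mem_centralizer_singleton_iff
  let C := X ⊓ Subgroup.centralizer ({v} : Set G)
  have memC : ∀ {g : G}, g ∈ C ↔ g * u = u * g ∧ g * v = v * g := fun {g} => by
    simp only [C, X, Subgroup.mem_inf, Subgroup.mem_centralizer_singleton_iff]
  -- the centraliser of the pure four-group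
  have hCle : C ≤ H := by
    have hyC : y ∈ C := memC.2 ⟨hyu, hyv⟩
    suffices h : H.subgroupOf C = ⊤ from Subgroup.subgroupOf_eq_top.1 h
    have inCV : ∀ τ : ↥MC, f τ ∈ C → (τ : Pm) ∈ CV := fun τ h => by
      obtain ⟨h1, h2⟩ := memC.1 h
      rw [← hu, ← map_mul, ← map_mul] at h1
      rw [← hv, ← map_mul, ← map_mul] at h2
      exact mem_CV.2 ⟨mem_CZ.2 ⟨τ.2, congrArg Subtype.val (finj h1)⟩, congrArg Subtype.val (finj h2)⟩
    have ofCV : ∀ τ : ↥CV, f ⟨τ.1, (mem_CZ.1 (mem_CV.1 τ.2).1).1⟩ ∈ C := fun τ => by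
      rw [memC, ← hu, ← hv, ← map_mul, ← map_mul, ← map_mul, ← map_mul]
      exact ⟨congrArg f (Subtype.ext (mem_CZ.1 (mem_CV.1 τ.2).1).2), congrArg f (Subtype.ext (mem_CV.1 τ.2).2)⟩
    have hcY : Nat.card (H.subgroupOf C) = 480 := by
      rw [← card_CV]
      refine (Nat.card_eq_of_bijective (fun τ : ↥CV => (⟨⟨_, ofCV τ⟩, fmem _⟩ : H.subgroupOf C)) ⟨?_, ?_⟩).symm
      · intro a b e
        exact Subtype.ext (congrArg Subtype.val (finj (congrArg (fun w => ((w.1 : C) : G)) e)) :)
      · rintro ⟨⟨x, hxC⟩, hxH⟩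
        obtain ⟨τ, rfl⟩ := fsurj x hxH
        exact ⟨⟨τ, inCV τ hxC⟩, rfl⟩
    have inH : ∀ x : G, x * y = y * x → x ∈ H := fun x e => embedded x yH hyA (by
      rw [hy, e, mul_inv_cancel_right, ← hy]; exact fmem _)
    have hyY : (⟨y, hyC⟩ : C) ∈ H.subgroupOf C := Subgroup.mem_subgroupOf.2 (hy ▸ fmem _)
    have hk32 : Nat.card (Subgroup.centralizer ({(⟨y, hyC⟩ : C)} : Set C)) ≤ 32 := by
      refine le_trans ?_ card_CVY_le
      have hx : ∀ x : Subgroup.centralizer ({(⟨y, hyC⟩ : C)} : Set C), ∃ τ : ↥(CV ⊓ Subgroup.centralizer {yM}),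
          f ⟨τ.1, (mem_CZ.1 (mem_CV.1 τ.2.1).1).1⟩ = (x.1 : G) := by
        rintro ⟨⟨x, hxC⟩, hxy⟩
        have e : x * y = y * x := congrArg Subtype.val (Subgroup.mem_centralizer_singleton_iff.1 hxy)
        obtain ⟨τ, rfl⟩ := fsurj x (inH x e)
        rw [← hy, ← map_mul, ← map_mul] at e
        exact ⟨⟨τ, inCV τ hxC, Subgroup.mem_centralizer_singleton_iff.2 (congrArg Subtype.val (finj e) :)⟩, rfl⟩
      choose τ hτ using hx
      exact Nat.card_le_card_of_injective τ fun a b e =>
        Subtype.ext (Subtype.ext ((hτ a).symm.trans (by rw [e]; exact hτ b)))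
    obtain ⟨cls, hcls⟩ : ∃ n, Nat.card {z // IsConj (⟨⟨y, hyC⟩, hyY⟩ : H.subgroupOf C) z} = n := ⟨_, rfl⟩
    have hclsmul : cls * Nat.card (Subgroup.centralizer ({(⟨y, hyC⟩ : C)} : Set C)) = 480 := by
      have h := card_conj_mul (⟨⟨y, hyC⟩, hyY⟩ : H.subgroupOf C)
      rw [hcY, hcls] at h
      rw [← h]
      congr 1
      refine Nat.card_congr ⟨fun w => ⟨⟨w.1, ?_⟩, Subgroup.mem_centralizer_singleton_iff.2
          (Subtype.ext (Subgroup.mem_centralizer_singleton_iff.1 w.2))⟩,
        fun w => ⟨w.1.1, Subgroup.mem_centralizer_singleton_iff.2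
          (congrArg Subtype.val (Subgroup.mem_centralizer_singleton_iff.1 w.2) :)⟩, fun _ => rfl, fun _ => rfl⟩
      exact Subgroup.mem_subgroupOf.2
        (inH _ (congrArg Subtype.val (Subgroup.mem_centralizer_singleton_iff.1 w.2)))
    have hcls15 : 15 ≤ cls := by nlinarith
    let I := {x : C // IsConj (⟨y, hyC⟩ : C) x}
    have hI : Nat.card I = cls * (H.subgroupOf C).index := by
      have h := card_conj_mul (⟨y, hyC⟩ : C)
      rw [← (H.subgroupOf C).card_mul_index, hcY] at h
      refine Nat.eq_of_mul_eq_mul_right (Nat.card_pos (α := Subgroup.centralizer ({(⟨y, hyC⟩ : C)} : Set C))) ?_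
      rw [mul_right_comm, hclsmul]
      exact h
    refine coset_count (H.subgroupOf C) (fun x : I => x.1) cls ?_ hI (by omega) ?_
    · rw [← hcls]
      refine Nat.card_le_card_of_injective (fun x => ⟨⟨x.1.1, x.2⟩, ?_⟩) fun a b e => ?_
      · obtain ⟨g, hg⟩ := isConj_iff.1 x.1.2
        have hgG : (g : G) ∈ H := embedded g yH hyA (by
          rw [hy]
          have := x.2
          rw [Subgroup.mem_subgroupOf, ← hg] at this
          exact this)
        exact isConj_iff.2 ⟨⟨g, hgG⟩, Subtype.ext hg⟩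
      · exact Subtype.ext (Subtype.ext (congrArg (fun w => (w.1 : C)) e :))
    · intro j hj
      have hsq : ∀ x : I, (x.1 : G) * (x.1 : G) = 1 := fun x => by
        obtain ⟨g, hg⟩ := isConj_iff.1 x.2
        rw [← hg]
        show (g : G) * y * (g : G)⁻¹ * ((g : G) * y * (g : G)⁻¹) = 1
        rw [conj_mul, y2]; group
      let η : Bool → Bool → ↥MC := fun a b => (bif a then zH else 1) * (bif b then mH else 1)
      have hη : ∀ a b, f (η a b) ∈ C ∧ ∀ x : G, x ∈ C → x * f (η a b) = f (η a b) * x := by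
        intro a b
        have hcu : u ∈ C := memC.2 ⟨rfl, hvu.symm⟩
        have hcv : v ∈ C := memC.2 ⟨hvu, rfl⟩
        refine ⟨?_, fun x hx => ?_⟩
        · rw [map_mul]
          refine mul_mem ?_ ?_
          · cases a
            · rw [cond_false, map_one]; exact one_mem _
            · rw [cond_true, hu]; exact hcu
          · cases b
            · rw [cond_false, map_one]; exact one_mem _
            · rw [cond_true, hv]; exact hcv
        · obtain ⟨h1, h2⟩ := memC.1 hx
          rw [map_mul]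
          refine Commute.mul_right ?_ ?_
          · cases a
            · rw [cond_false, map_one]; exact Commute.one_right x
            · rw [cond_true, hu]; exact h1
          · cases b
            · rw [cond_false, map_one]; exact Commute.one_right x
            · rw [cond_true, hv]; exact h2
      let DM : Subgroup ↥MC := (C ⊓ H.comap (MulAut.conj (j.1 : G)).toMonoidHom).comap f
      have hjη : ∀ a b, (j.1 : G) * f (η a b) * (j.1 : G)⁻¹ = f (η a b) := fun a b => by
        rw [(hη a b).2 _ j.1.2, mul_inv_cancel_right]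
      have hηD : ∀ a b, η a b ∈ DM := fun a b => ⟨(hη a b).1, by
        show (j.1 : G) * f (η a b) * (j.1 : G)⁻¹ ∈ H
        rw [hjη]; exact fmem _⟩
      have hsub : Nat.card DM < 60 := by
        rw [← Subgroup.card_map_of_injective MC.subtype_injective]
        refine free_small ?_ ⟨η true false, hηD _ _, by simp [η, zH]⟩ ⟨η false true, hηD _ _, by simp [η, mH]⟩ ?_
        · rintro _ ⟨σ, hσ, rfl⟩
          exact inCV σ hσ.1
        · rintro _ ⟨σ, hσ, rfl⟩ hA
          exact hj (Subgroup.mem_subgroupOf.2 (embedded _ σ hA hσ.2))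
      have hmem : ∀ (x : {x : I // x.1 * j.1⁻¹ ∈ H.subgroupOf C}) (b : Bool × Bool),
          ∃ σ : DM, f σ.1 = (x.1.1 : G) * (j.1 : G)⁻¹ * f (η b.1 b.2) := by
        rintro ⟨x, hx⟩ ⟨a, b⟩
        have hx' : (x.1 : G) * (j.1 : G)⁻¹ ∈ H := Subgroup.mem_subgroupOf.1 hx
        obtain ⟨σ, hσ⟩ := fsurj _ (mul_mem hx' (fmem (η a b)))
        refine ⟨⟨σ, ?_, ?_⟩, hσ⟩
        · show f σ ∈ C
          rw [hσ]; exact C.mul_mem (C.mul_mem x.1.2 (C.inv_mem j.1.2)) (hη a b).1
        · show (j.1 : G) * f σ * (j.1 : G)⁻¹ ∈ H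
          rw [hσ]
          have e : (j.1 : G) * ((x.1 : G) * (j.1 : G)⁻¹ * f (η a b)) * (j.1 : G)⁻¹ =
              ((x.1 : G) * (j.1 : G)⁻¹)⁻¹ * ((j.1 : G) * f (η a b) * (j.1 : G)⁻¹) := by
            have hi : (x.1 : G)⁻¹ = x.1 := inv_eq_of_mul_eq_one_right (hsq x)
            have hj2 : (j.1 : G)⁻¹ = j.1 := inv_eq_of_mul_eq_one_right (hsq j)
            rw [mul_inv_rev, inv_inv, hi]
            calc _ = (j.1 : G) * (x.1 : G) * ((j.1 : G)⁻¹ * f (η a b) * (j.1 : G)⁻¹) := by group
              _ = _ := by rw [hj2]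
          rw [e, hjη]
          exact mul_mem (inv_mem hx') (fmem _)
      choose σ hσ using hmem
      have key : ∀ (x x' : I) (ε : ↥MC), IsA ((yH * ε : ↥MC) : Pm) ∨
          ((x.1 : G) * (j.1 : G)⁻¹ * f ε = (x'.1 : G) * (j.1 : G)⁻¹ →
            (∀ w : G, w ∈ C → w * f ε = f ε * w) → False) := by
        intro x x' ε
        by_cases hA : IsA ((yH * ε : ↥MC) : Pm)
        · exact Or.inl hA
        refine Or.inr fun e hcomm => hA ?_
        have e1 : (x.1 : G) * f ε = x'.1 := by
          rw [mul_assoc, hcomm _ (inv_mem j.1.2), ← mul_assoc] at e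
          exact mul_right_cancel e
        obtain ⟨g, hg⟩ := isConj_iff.1 x.2
        obtain ⟨g', hg'⟩ := isConj_iff.1 x'.2
        rw [← hg, ← hg'] at e1
        change (g : G) * y * (g : G)⁻¹ * f ε = (g' : G) * y * (g' : G)⁻¹ at e1
        refine notA ((g : G)⁻¹ * g') yH _ hyA ?_
        rw [map_mul, hy]
        calc _ = (g : G)⁻¹ * ((g' : G) * y * (g' : G)⁻¹) * g := by group
          _ = (g : G)⁻¹ * ((g : G) * y * ((g : G)⁻¹ * f ε)) * g := by rw [← e1]; group
          _ = (g : G)⁻¹ * ((g : G) * y * (f ε * (g : G)⁻¹)) * g := by rw [hcomm _ (inv_mem g.2)]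
          _ = y * f ε := by group
      have hz' : zH⁻¹ = zH := inv_eq_of_mul_eq_one_right (Subtype.ext zM_sq)
      have hm' : mH⁻¹ = mH := inv_eq_of_mul_eq_one_right (Subtype.ext mM_sq)
      have hzm : zH * mH = mH * zH := Subtype.ext mz_comm.symm
      have hdiff : ∀ a b a' b', η a b * (η a' b')⁻¹ = η (xor a a') (xor b b') := by
        have hzz : zH * zH = 1 := Subtype.ext zM_sq
        have hmm : mH * mH = 1 := Subtype.ext mM_sq
        let Z : Bool → ↥MC := fun a => bif a then zH else 1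
        let M : Bool → ↥MC := fun a => bif a then mH else 1
        have hZ : ∀ a a', Z a * Z a' = Z (xor a a') := fun a a' => by cases a <;> cases a' <;> simp [Z, hzz]
        have hM : ∀ a a', M a * M a' = M (xor a a') := fun a a' => by cases a <;> cases a' <;> simp [M, hmm]
        have hc : ∀ a b, Commute (M b) (Z a) := fun a b => by
          cases a <;> cases b <;> simp only [Z, M, cond_true, cond_false] <;>
            first | exact Commute.one_left _ | exact Commute.one_right _ | exact (show Commute mH zH from hzm.symm)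
        have hZi : ∀ a, (Z a)⁻¹ = Z a := fun a => by cases a <;> simp [Z, hz']
        have hMi : ∀ a, (M a)⁻¹ = M a := fun a => by cases a <;> simp [M, hm']
        intro a b a' b'
        show Z a * M b * (Z a' * M b')⁻¹ = Z (xor a a') * M (xor b b')
        rw [mul_inv_rev, hZi, hMi, (hc a' b').eq, ← mul_assoc, mul_assoc (Z a), (hc a' b).eq, ← mul_assoc, hZ,
          mul_assoc, hM]
      have hnotA : ∀ a b, (a || b) = true → ¬ IsA ((yH * η a b : ↥MC) : Pm) := by
        intro a b hab hA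
        have h36 := hA.2
        cases a <;> cases b
        · simp at hab
        all_goals
          simp only [η, cond_true, cond_false, one_mul, mul_one, Subgroup.coe_mul, yH, zH, mH] at h36
        · rw [ym_fix] at h36; omega
        · rw [yz_fix] at h36; omega
        · rw [show zM * mM = mM * zM from mz_comm.symm, ymz_fix] at h36; omega
      have hinj : Function.Injective
          fun p : {x : I // x.1 * j.1⁻¹ ∈ H.subgroupOf C} × (Bool × Bool) => σ p.1 p.2 := by
        rintro ⟨x, a, b⟩ ⟨x', a', b'⟩ e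
        have e0 := (hσ x (a, b)).symm.trans ((congrArg (fun w : DM => f w.1) e).trans (hσ x' (a', b')))
        have e1 : (x.1.1 : G) * (j.1 : G)⁻¹ * f (η (xor a a') (xor b b')) = (x'.1.1 : G) * (j.1 : G)⁻¹ := by
          rw [← hdiff, map_mul, map_inv, ← mul_assoc, e0, mul_inv_cancel_right]
        by_cases hab : ((xor a a') || (xor b b')) = true
        · exact (((key x.1 x'.1 _).resolve_left (hnotA _ _ hab)) e1 (hη _ _).2).elim
        · obtain ⟨rfl, rfl⟩ : a = a' ∧ b = b' := by revert hab; cases a <;> cases a' <;> cases b <;> cases b' <;> simp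
          rw [show x = x' from Subtype.ext (Subtype.ext (Subtype.ext (mul_right_cancel (mul_right_cancel e0))))]
      have h4 := Nat.card_le_card_of_injective _ hinj
      rw [Nat.card_prod, Nat.card_prod, Nat.card_eq_fintype_card (α := Bool), Fintype.card_bool] at h4
      show Nat.card {x : I // x.1 * j.1⁻¹ ∈ H.subgroupOf C} < cls
      omega
  -- every other involution of the centraliser in the subgroup
  have hinv : ∀ σ : ↥MC, (σ : Pm) ∈ CZ → (σ : Pm) * σ = 1 → (σ : Pm) ≠ 1 → (σ : Pm) ≠ zM →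
      ∀ g : G, g * u = u * g → g * f σ = f σ * g → g ∈ H := by
    intro σ hσ h2 h1 hz g hgu hgs
    rcases cen_cases hσ h2 h1 hz with h | h | ⟨c, hc, h⟩
    · exact (hY σ h).1 (Subgroup.mem_centralizer_singleton_iff.2 hgs)
    · refine (hY (σ * zH) h).1 (Subgroup.mem_centralizer_singleton_iff.2 ?_)
      rw [map_mul, hu, ← mul_assoc, hgs, mul_assoc, hgu, mul_assoc]
    · let cH : ↥MC := ⟨c, (mem_CZ.1 hc).1⟩
      have hcu : f cH * u = u * f cH := by
        rw [← hu, ← map_mul, ← map_mul]; exact congrArg f (Subtype.ext (mem_CZ.1 hc).2)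
      have hcu' : (f cH)⁻¹ * u = u * (f cH)⁻¹ := (Commute.inv_left hcu)
      have key : f cH * g * (f cH)⁻¹ ∈ H := hCle (memC.2 ⟨by
        calc f cH * g * (f cH)⁻¹ * u = f cH * g * ((f cH)⁻¹ * u) := by group
          _ = f cH * (g * u) * (f cH)⁻¹ := by rw [hcu']; group
          _ = (f cH * u) * g * (f cH)⁻¹ := by rw [hgu]; group
          _ = u * (f cH * g * (f cH)⁻¹) := by rw [hcu]; group, by
        have e0 : f cH * g * (f cH)⁻¹ * (f cH * f σ * (f cH)⁻¹) = f cH * f σ * (f cH)⁻¹ * (f cH * g * (f cH)⁻¹) := by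
          rw [conj_mul, conj_mul, hgs]
        rcases h with h | h
        · rwa [show f cH * f σ * (f cH)⁻¹ = v by
            rw [← hv, ← map_inv, ← map_mul, ← map_mul]; exact congrArg f (Subtype.ext h)] at e0
        · rw [show f cH * f σ * (f cH)⁻¹ = v * u by
            rw [← hv, ← hu, ← map_inv, ← map_mul, ← map_mul, ← map_mul]; exact congrArg f (Subtype.ext h)] at e0
          have hx : f cH * g * (f cH)⁻¹ * u = u * (f cH * g * (f cH)⁻¹) := by
            calc f cH * g * (f cH)⁻¹ * u = f cH * g * ((f cH)⁻¹ * u) := by group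
              _ = f cH * (g * u) * (f cH)⁻¹ := by rw [hcu']; group
              _ = (f cH * u) * g * (f cH)⁻¹ := by rw [hgu]; group
              _ = u * (f cH * g * (f cH)⁻¹) := by rw [hcu]; group
          rw [← mul_assoc, mul_assoc v u, ← hx, ← mul_assoc] at e0
          exact mul_right_cancel e0⟩)
      simpa [mul_assoc] using mul_mem (mul_mem (inv_mem (fmem cH)) key) (fmem cH)
  -- the centraliser of the involution with twelve fixed points
  have hXle : X ≤ H := by
    intro g hgX
    refine embedded g yH hyA ?_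
    rw [hy]
    by_contra hs
    obtain ⟨s, hs'⟩ : ∃ s, g * y * g⁻¹ = s := ⟨_, rfl⟩
    rw [hs'] at hs
    have s2 : s * s = 1 := by rw [← hs', conj_mul, y2]; group
    have hsu : s * u = u * s := by
      rw [← hs']; exact memX.1 (X.mul_mem (X.mul_mem hgX (memX.2 hyu)) (X.inv_mem hgX))
    obtain ⟨d, hd⟩ : ∃ d, s * v = d := ⟨_, rfl⟩
    have hdu : d * u = u * d := by rw [← hd, mul_assoc, hvu, ← mul_assoc, hsu, mul_assoc]
    have hsd : s * d * s = d⁻¹ := by
      rw [← hd, mul_inv_rev, inv_eq_of_mul_eq_one_right s2, inv_eq_of_mul_eq_one_right v2]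
      calc s * (s * v) * s = s * s * (v * s) := by group
        _ = v * s := by rw [s2, one_mul]
    have hvd : v = s * d := by rw [← hd, ← mul_assoc, s2, one_mul]
    have hspow : ∀ n : ℕ, s * d ^ n * s = (d ^ n)⁻¹ := fun n => by
      induction n with
      | zero => simp [s2]
      | succ n ih =>
        calc s * d ^ (n + 1) * s = s * d ^ n * (s * s) * d * s := by rw [s2, pow_succ]; group
          _ = (s * d ^ n * s) * (s * d * s) := by group
          _ = (d ^ (n + 1))⁻¹ := by rw [ih, hsd, ← mul_inv_rev, ← pow_succ']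
    have hex : ∃ k, 0 < k ∧ (d ^ k = 1 ∨ d ^ k = u) := ⟨orderOf d, orderOf_pos d, Or.inl (pow_orderOf_eq_one d)⟩
    obtain ⟨hk0, hk⟩ := Nat.find_spec hex
    have hmin : ∀ i, i < Nat.find hex → ¬(0 < i ∧ (d ^ i = 1 ∨ d ^ i = u)) := fun i hi => Nat.find_min hex hi
    generalize Nat.find hex = k at hk0 hk hmin
    rcases Nat.even_or_odd' k with ⟨i, hi | hi⟩
    · obtain ⟨w, hw⟩ : ∃ w, d ^ i = w := ⟨_, rfl⟩
      have hw1 := hmin i (by omega)
      rw [hw] at hw1
      rw [hi, two_mul, pow_add, hw] at hk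
      have hwu : w * u = u * w := by rw [← hw]; exact (Commute.pow_left hdu i)
      have hsw : s * w * s = w⁻¹ := hw ▸ hspow i
      have hwd : w * d = d * w := by rw [← hw, ← pow_succ, ← pow_succ']
      have hwv : w * v * w⁻¹ = w * w * v := by
        have e1 : s * w⁻¹ = w * s := by rw [← hsw, ← mul_assoc, ← mul_assoc, s2, one_mul]
        calc w * v * w⁻¹ = w * s * (d * w⁻¹) := by rw [hvd]; group
          _ = w * (s * w⁻¹) * d := by rw [show d * w⁻¹ = w⁻¹ * d from (Commute.inv_right hwd.symm)]; group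
          _ = w * w * v := by rw [e1, hvd]; group
      -- the conjugate of `y` commutes with both
      have hwy : w * y * w⁻¹ ∈ C := by
        have hwX : w ∈ X := memX.2 hwu
        have h1 : w * y * w⁻¹ * u = u * (w * y * w⁻¹) :=
          memX.1 (X.mul_mem (X.mul_mem hwX (memX.2 hyu)) (X.inv_mem hwX))
        refine memC.2 ⟨h1, ?_⟩
        have e0 : w * y * w⁻¹ * (w * v * w⁻¹) = w * v * w⁻¹ * (w * y * w⁻¹) := by rw [conj_mul, conj_mul, hyv]
        rw [hwv] at e0
        rcases hk with hk | hk <;> rw [hk] at e0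
        · rwa [one_mul] at e0
        · rw [← mul_assoc, h1, mul_assoc, mul_assoc u v] at e0
          exact mul_left_cancel e0
      have hwH : w ∈ H := embedded w yH hyA (by rw [hy]; exact hCle hwy)
      obtain ⟨ω, hω⟩ := fsurj w hwH
      have hωZ : (ω : Pm) ∈ CZ := mem_CZ.2 ⟨ω.2, congrArg Subtype.val
        (finj (show f (ω * zH) = f (zH * ω) by rw [map_mul, map_mul, hω, hu, hwu]))⟩
      have hω2 : (ω : Pm) * ω = 1 := by
        rcases hk with hk | hk
        · exact congrArg Subtype.val (finj (show f (ω * ω) = f 1 by rw [map_mul, map_one, hω, hk]))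
        · exact absurd (congrArg Subtype.val (finj (show f (ω * ω) = f zH by rw [map_mul, hω, hk, hu])))
            (sq_ne_zM hωZ)
      have hwinv : w⁻¹ = w := by
        rw [← hω, ← map_inv]
        exact congrArg f (Subtype.ext (inv_eq_of_mul_eq_one_right hω2))
      refine hs (hinv ω hωZ hω2 (fun e => hw1 ⟨by omega, Or.inl ?_⟩) (fun e => hw1 ⟨by omega, Or.inr ?_⟩) s hsu ?_)
      · rw [← hω, show ω = 1 from Subtype.ext e, map_one]
      · rw [← hω, show ω = zH from Subtype.ext e, hu]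
      · rw [hω]
        calc s * w = s * w * (s * s) := by rw [s2, mul_one]
          _ = s * w * s * s := by group
          _ = w * s := by rw [hsw, hwinv]
    · -- a conjugate of the second involution or of its product
      rw [hi] at hk
      have h := hspow i
      have e : d ^ i * s * (d ^ i)⁻¹ = d ^ (2 * i + 1) * v := by
        calc d ^ i * s * (d ^ i)⁻¹ = d ^ i * s * (s * d ^ i * s) := by rw [h]
          _ = d ^ i * d ^ i * s := by rw [← mul_assoc, ← mul_assoc, mul_assoc _ s s, s2, mul_one]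
          _ = d ^ (2 * i + 1) * (d⁻¹ * s) := by rw [pow_succ, two_mul, pow_add]; group
          _ = d ^ (2 * i + 1) * v := by rw [← hsd, mul_assoc, s2, mul_one, hvd]
      rw [← hs'] at e
      rcases hk with hk | hk
      · have := (notA (d ^ i * g) yH mH hyA (by rw [hy, hv, ← one_mul v, ← hk, ← e]; group)).2
        rw [show ((mH : ↥MC) : Pm) = mM from rfl, mM_fix] at this
        omega
      · have := (notA (d ^ i * g) yH (zH * mH) hyA (by rw [hy, map_mul, hu, hv, ← hk, ← e]; group)).2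
        rw [show ((zH * mH : ↥MC) : Pm) = zM * mM from rfl, show zM * mM = mM * zM from mz_comm.symm, mz_fix] at this
        omega
  -- a conjugate outside
  refine eq_top_iff.2 fun g _ => embedded g σt hAt ?_
  rw [hσt]
  by_contra hs
  obtain ⟨s, hs'⟩ : ∃ s, g * t * g⁻¹ = s := ⟨_, rfl⟩
  rw [hs'] at hs
  have s2 : s * s = 1 := by rw [← hs', conj_mul, t2]; group
  have hncs : ∀ d : G, d * s * d⁻¹ ≠ u := fun d e => by
    have := (notA (d * g) σt zH hAt (by rw [hσt, hu, ← e, ← hs']; group)).2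
    rw [show ((zH : ↥MC) : Pm) = zM from rfl, zM_fix] at this
    omega
  obtain ⟨d, hd⟩ : ∃ d, s * u = d := ⟨_, rfl⟩
  have hsd : s * d * s = d⁻¹ := by
    rw [← hd, mul_inv_rev, inv_eq_of_mul_eq_one_right s2, inv_eq_of_mul_eq_one_right u2]
    calc s * (s * u) * s = s * s * (u * s) := by group
      _ = u * s := by rw [s2, one_mul]
  have hud : u = s * d := by rw [← hd, ← mul_assoc, s2, one_mul]
  have hspow : ∀ n : ℕ, s * d ^ n * s = (d ^ n)⁻¹ := fun n => by
    induction n with
    | zero => simp [s2]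
    | succ n ih =>
      calc s * d ^ (n + 1) * s = s * d ^ n * (s * s) * d * s := by rw [s2, pow_succ]; group
        _ = (s * d ^ n * s) * (s * d * s) := by group
        _ = (d ^ (n + 1))⁻¹ := by rw [ih, hsd, ← mul_inv_rev, ← pow_succ']
  have hn : 0 < orderOf d := orderOf_pos d
  have hone := pow_orderOf_eq_one d
  rcases Nat.even_or_odd' (orderOf d) with ⟨n, hm | hm⟩
  · rw [hm, two_mul, pow_add] at hone
    obtain ⟨w, hw⟩ : ∃ w, d ^ n = w := ⟨_, rfl⟩
    have hws : w * s = s * w := by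
      have := hspow n
      rw [hw] at this hone
      rw [inv_eq_of_mul_eq_one_right hone] at this
      calc w * s = s * w * s * s := by rw [this]
        _ = s * w := by rw [mul_assoc _ s, s2, mul_one]
    have hwd : w * d = d * w := by rw [← hw, ← pow_succ, ← pow_succ']
    have hwu : w * u = u * w := by
      rw [hud, ← mul_assoc, hws, mul_assoc, hwd, ← mul_assoc]
    rw [hw] at hone
    obtain ⟨τ, hτ⟩ := fsurj w (hXle (memX.2 hwu))
    have h1' : w ≠ 1 := fun e => by
      rw [← hw] at e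
      have := orderOf_le_of_pow_eq_one (by omega : 0 < n) e
      omega
    obtain ⟨h2, h1⟩ := invol w τ hτ hone h1'
    refine hs ?_
    rcases invol_cases τ.2 h2 h1 with ⟨a, -, h⟩ | ⟨a, ha, h⟩
    · exact (hY τ (isA_of_conj h)).1 (Subgroup.mem_centralizer_singleton_iff.2 (by rw [hτ]; exact hws.symm))
    · have e : f ⟨a, ha⟩ * w * (f ⟨a, ha⟩)⁻¹ = u := by
        rw [← hτ, ← hu, ← map_inv, ← map_mul, ← map_mul]
        exact congrArg f (Subtype.ext h)
      have := hXle (show f ⟨a, ha⟩ * s * (f ⟨a, ha⟩)⁻¹ ∈ _ from by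
        show _ ∈ Subgroup.centralizer _
        rw [← e]
        refine mem_cent_conj.2 (Subgroup.mem_centralizer_singleton_iff.2 ?_)
        simpa [mul_assoc] using hws.symm)
      simpa [mul_assoc] using mul_mem (mul_mem (inv_mem (fmem ⟨a, ha⟩)) this) (fmem ⟨a, ha⟩)
  · refine hncs (d ^ n) ?_
    rw [hud]
    have h := hspow n
    calc d ^ n * s * (d ^ n)⁻¹ = d ^ n * s * (s * d ^ n * s) := by rw [h]
      _ = d ^ n * d ^ n * s := by rw [← mul_assoc, ← mul_assoc, mul_assoc _ s s, s2, mul_one]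
      _ = d⁻¹ * s := by
        rw [← pow_add, show d ^ (n + n) = d⁻¹ from eq_inv_of_mul_eq_one_left (by
          rw [← pow_succ, show n + n + 1 = 2 * n + 1 by omega, ← hm, pow_orderOf_eq_one])]
      _ = s * d := by rw [← hsd, mul_assoc, s2, mul_one]

end Embedded

/-- **A subgroup isomorphic to Co3 with the centraliser of an involution is everything.** -/
theorem eq_top_of_co3 {G : Type*} [Group G] [Finite G] (t : G) (ht : orderOf t = 2) (H : Subgroup G)
    (hC : Subgroup.centralizer ({t} : Set G) ≤ H) (e : H ≃* genGroup 9 276 SporPerm.co3Gens)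
    (hcard : Nat.card (Subgroup.centralizer ({t} : Set G)) = 2903040) : H = ⊤ := by
  have finj : Function.Injective (H.subtype.comp e.symm.toMonoidHom) := H.subtype_injective.comp e.symm.injective
  refine top_of_embed _ finj (fun σ => (e.symm σ).2) (fun x hx => ?_) t ht hC hcard
  exact ⟨e ⟨x, hx⟩, by simp⟩

end Cfsg.Agent.CoThreeInvol
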