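import Cfsg.Agent.Lib.Compute.LightCert
import Cfsg.Agent.Lib.Compute.AutSpec

/-!
Codes of permutations of 276 points: pointwise tests, products along a chain, elements fixing base points.
-/

set_option autoImplicit false
set_option maxRecDepth 100000

namespace Cfsg.Agent.CoThreeInvol

open Cfsg.Agent.PermCert
open Cfsg.Agent.PermAut (Fwd fwd_rep)

/-- Permutations of the 276 points. -/
abbrev Pm : Type := Equiv.Perm (Fin 276)

theorem eq_of_codes {a b : ℕ} {α β : Pm} (ha : Fwd 9 (a, α)) (hb : Fwd 9 (b, β))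
    (e : ∀ i, i < 276 → get 9 a i = get 9 b i) : α = β :=
  Equiv.ext fun i => Fin.ext ((ha i).symm.trans ((e i i.2).trans (hb i)))

theorem fwd_mul {a b : ℕ} {α β : Pm} (ha : Fwd 9 (a, α)) (hb : Fwd 9 (b, β)) :
    Fwd 9 (comp 9 276 a b, α * β) := by
  intro i
  show get 9 (comp 9 276 a b) i = ((α * β) i : ℕ)
  rw [get_comp _ _ _ _ _ i.2, show get 9 b i = (β i : ℕ) from hb i]
  exact ha (β i)

theorem fwd_one : Fwd 9 (idCode 9 276, (1 : Pm)) := fun i => get_idCode 9 276 i (by norm_num) i.2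

/-- `c` carries `q` to `r`. -/
def intertw (c q r : ℕ) : Bool :=
  (List.range 276).all fun i => Nat.beq (get 9 c (get 9 q i)) (get 9 r (get 9 c i))

theorem intertw_iff {c q r : ℕ} {γ σ ρ : Pm} (hc : Fwd 9 (c, γ)) (hq : Fwd 9 (q, σ)) (hr : Fwd 9 (r, ρ)) :
    intertw c q r = true ↔ γ * σ = ρ * γ := by
  have key : ∀ i : Fin 276, get 9 c (get 9 q i) = ((γ * σ) i : ℕ) ∧ get 9 r (get 9 c i) = ((ρ * γ) i : ℕ) :=
    fun i => ⟨by rw [show get 9 q i = (σ i : ℕ) from hq i]; exact hc _,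
      by rw [show get 9 c i = (γ i : ℕ) from hc i]; exact hr _⟩
  simp only [intertw, List.all_eq_true, List.mem_range, Nat.beq_eq]
  constructor
  · exact fun h => Equiv.ext fun i => Fin.ext ((key i).1.symm.trans ((h i i.2).trans (key i).2))
  · intro h i hi
    rw [(key ⟨i, hi⟩).1, (key ⟨i, hi⟩).2, h]

/-- Two codes of one permutation. -/
def sameCode (a b : ℕ) : Bool := (List.range 276).all fun i => Nat.beq (get 9 a i) (get 9 b i)

theorem sameCode_iff {a b : ℕ} {α β : Pm} (ha : Fwd 9 (a, α)) (hb : Fwd 9 (b, β)) :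
    sameCode a b = true ↔ α = β := by
  simp only [sameCode, List.all_eq_true, List.mem_range, Nat.beq_eq]
  refine ⟨eq_of_codes ha hb, fun h i hi => ?_⟩
  rw [show get 9 a i = (α ⟨i, hi⟩ : ℕ) from ha ⟨i, hi⟩, show get 9 b i = (β ⟨i, hi⟩ : ℕ) from hb ⟨i, hi⟩, h]

/-- A code of an element of order at most two. -/
def invOK (c : ℕ) : Bool := (List.range 276).all fun i => Nat.beq (get 9 c (get 9 c i)) i

theorem invOK_iff {c : ℕ} {σ : Pm} (hc : Fwd 9 (c, σ)) : invOK c = true ↔ σ * σ = 1 := by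
  have key : ∀ i : Fin 276, get 9 c (get 9 c i) = ((σ * σ) i : ℕ) := fun i => by
    rw [show get 9 c i = (σ i : ℕ) from hc i]; exact hc _
  simp only [invOK, List.all_eq_true, List.mem_range, Nat.beq_eq]
  refine ⟨fun h => Equiv.ext fun i => Fin.ext ((key i).symm.trans (h i i.2)), fun h i hi => ?_⟩
  rw [key ⟨i, hi⟩, h]; rfl

/-- The number of fixed points of a code. -/
def fixCount (c : ℕ) : ℕ := ((List.range 276).filter fun i => Nat.beq (get 9 c i) i).length

/-- The number of fixed points. -/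
noncomputable def nFix (σ : Pm) : ℕ := Nat.card {i : Fin 276 // σ i = i}

theorem nFix_conj (σ a : Pm) : nFix (a * σ * a⁻¹) = nFix σ :=
  Nat.card_congr ⟨fun i => ⟨a⁻¹ i.1, by
      have h := congrArg (a⁻¹ : Pm) i.2
      simpa using h⟩,
    fun i => ⟨a i.1, by simp [i.2]⟩, fun i => Subtype.ext (by simp), fun i => Subtype.ext (by simp)⟩

theorem fixCount_eq {c : ℕ} {σ : Pm} (hc : Fwd 9 (c, σ)) : fixCount c = nFix σ := by
  classical
  rw [fixCount, ← List.map_coe_finRange_eq_range, List.filter_map, List.length_map, nFix, Nat.card_eq_fintype_card,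
    Fintype.card_subtype, ← List.toFinset_card_of_nodup ((List.nodup_finRange 276).filter _)]
  refine congrArg Finset.card ?_
  ext i
  simp only [List.mem_toFinset, List.mem_filter, List.mem_finRange, true_and, Function.comp_apply, Nat.beq_eq,
    Finset.mem_filter, Finset.mem_univ, show get 9 c i = (σ i : ℕ) from hc i, Fin.val_inj]

/-- An involution with thirty-six fixed points. -/
def IsA (σ : Pm) : Prop := σ * σ = 1 ∧ nFix σ = 36

theorem isA_conj {σ : Pm} (h : IsA σ) (a : Pm) : IsA (a * σ * a⁻¹) :=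
  ⟨by rw [conj_mul, h.1]; group, by rw [nFix_conj, h.2]⟩

theorem ne_one_of_isA {σ : Pm} (h : IsA σ) : σ ≠ 1 := by
  rintro rfl
  have h2 := h.2
  have : nFix 1 = 276 := by
    rw [nFix, Nat.card_congr (Equiv.subtypeUnivEquiv (p := fun i : Fin 276 => (1 : Pm) i = i) fun i => rfl),
      Nat.card_fin]
  omega

/-- The test for such an involution. -/
def isAOK (c : ℕ) : Bool := invOK c && Nat.beq (fixCount c) 36

theorem isAOK_iff {c : ℕ} {σ : Pm} (hc : Fwd 9 (c, σ)) : isAOK c = true ↔ IsA σ := by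
  rw [isAOK, Bool.and_eq_true, invOK_iff hc, Nat.beq_eq, fixCount_eq hc, IsA]

theorem exists_zip {α β : Type*} : ∀ {l : List α} {l' : List β} {x : α}, l.length = l'.length → x ∈ l →
    ∃ y, (x, y) ∈ l.zip l'
  | [], _, _, _, h => by simp at h
  | a :: l, [], _, h, _ => by simp at h
  | a :: l, b :: l', x, h, hx => by
    rcases List.mem_cons.1 hx with rfl | hx
    · exact ⟨b, by simp⟩
    · obtain ⟨y, hy⟩ := exists_zip (l' := l') (by simpa using h) hx
      exact ⟨y, by simp [hy]⟩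

/-- All products along a chain. -/
def prods : List CLevel → ℕ → List ℕ
  | [], pre => [pre]
  | (_, _, T) :: L, pre => T.flatMap fun t => prods L (comp 9 276 pre t.2.1.1)

theorem prods_spec : ∀ (L : List CLevel) {pre : ℕ} {π h : Pm}, Fwd 9 (pre, π) → h ∈ lightSet 9 276 L →
    ∃ c ∈ prods L pre, Fwd 9 (c, π * h)
  | [], pre, π, h, hp, hh => by
    simp only [lightSet, Set.mem_singleton_iff] at hh
    subst hh
    exact ⟨pre, by simp [prods], by rwa [mul_one]⟩
  | (b, S, T) :: L, pre, π, h, hp, hh => by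
    obtain ⟨t, ht, τ, hτ, r, hr, rfl⟩ := hh
    obtain ⟨c, hc, hf⟩ := prods_spec L (fwd_mul hp (fwd_rep hτ)) hr
    exact ⟨c, List.mem_flatMap.2 ⟨t, ht, hc⟩, by rwa [← mul_assoc]⟩

/-- The products along a chain fixing the first base points. -/
def fixProds : List CLevel → ℕ → ℕ → List ℕ
  | L, 0, pre => prods L pre
  | [], _ + 1, pre => [pre]
  | (b, _, T) :: L, k + 1, pre =>
    match T.find? (fun t => Nat.beq (get 9 pre t.1) b) with
    | none => []
    | some t => fixProds L k (comp 9 276 pre t.2.1.1)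

theorem fixProds_spec : ∀ (L : List CLevel), LightSpec 9 276 L → ∀ (k : ℕ) {pre : ℕ} {π h : Pm},
    Fwd 9 (pre, π) → h ∈ lightSet 9 276 L →
    (∀ i : Fin 276, (i : ℕ) ∈ (L.map fun l => l.1).take k → (π * h) i = i) →
    ∃ c ∈ fixProds L k pre, Fwd 9 (c, π * h)
  | L, _, 0, pre, π, h, hp, hh, _ => by
    cases L <;> exact prods_spec _ hp hh
  | [], _, k + 1, pre, π, h, hp, hh, _ => by
    simp only [lightSet, Set.mem_singleton_iff] at hh
    subst hh
    exact ⟨pre, by simp [fixProds], by rwa [mul_one]⟩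
  | (b, S, T) :: L, hs, k + 1, pre, π, h, hp, hh, hfix => by
    obtain ⟨t, ht, τ, hτ, r, hr, rfl⟩ := hh
    have hb : (π * (τ * r)) ⟨b, hs.2.1⟩ = ⟨b, hs.2.1⟩ := hfix _ (by simp)
    have htlt : t.1 < 276 := by rw [← tfst_apply hs ht hτ hr]; exact Fin.is_lt _
    have htb : get 9 pre t.1 = b := by
      rw [show get 9 pre t.1 = (π ⟨t.1, htlt⟩ : ℕ) from hp ⟨t.1, htlt⟩,
        show (⟨t.1, htlt⟩ : Fin 276) = (τ * r) ⟨b, hs.2.1⟩ from Fin.ext (tfst_apply hs ht hτ hr).symm,
        ← Equiv.Perm.mul_apply, hb]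
    obtain ⟨u, hu⟩ : ∃ u, T.find? (fun t => Nat.beq (get 9 pre t.1) b) = some u := by
      rw [← Option.isSome_iff_exists, List.find?_isSome]
      exact ⟨t, ht, by rw [Nat.beq_eq, htb]⟩
    have hut : u = t := by
      have hm := List.mem_of_find?_eq_some hu
      have h1 := List.find?_some hu
      rw [Nat.beq_eq] at h1
      obtain ⟨⟨σu, -, hσu⟩, hku⟩ := hs.2.2.2.1 u hm
      have hult : u.1 < 276 := by rw [← hku, (hσu ⟨b, hs.2.1⟩).1]; exact Fin.is_lt _
      refine List.inj_on_of_nodup_map hs.2.2.2.2.2.2 hm ht ?_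
      have e1 : π ⟨u.1, hult⟩ = π ⟨t.1, htlt⟩ := Fin.ext ((hp ⟨u.1, hult⟩).symm.trans (h1.trans (htb.symm.trans (hp ⟨t.1, htlt⟩))))
      exact congrArg Fin.val (π.injective e1)
    subst hut
    obtain ⟨c, hc, hf⟩ := fixProds_spec L hs.1 k (fwd_mul hp (fwd_rep hτ)) hr (fun i hi => by
      rw [mul_assoc]; exact hfix i (by simp [hi]))
    exact ⟨c, by simp only [fixProds, hu]; exact hc, by rwa [← mul_assoc]⟩

end Cfsg.Agent.CoThreeInvol
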