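import Cfsg.Agent.Lib.CoThreeInvol.CertBigTree

/-! The chain of Co3 through five fixed points of an involution. -/

set_option autoImplicit false
set_option maxRecDepth 100000
set_option Elab.async false

namespace Cfsg.Agent.CoThreeInvol

open Cfsg.Agent.PermCert

theorem big_derived : checkDerived 9 276 SporPerm.co3Gens bigDerived = true := by decide +kernel

theorem big_rest : (Nat.ble 276 (2 ^ 9) && (SporPerm.co3Gens.all fun g => validElt 9 276 g) &&
    ((topCodes bigLevels).all fun s => memCode s (SporPerm.co3Gens ++ bigDerived.map fun d => d.1)) &&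
    !bigLevels.isEmpty) = true := by decide +kernel

theorem big_light : lightCert 9 276 SporPerm.co3Gens bigDerived bigLevels = true := by
  have h := big_rest
  simp only [lightCert, Bool.and_eq_true] at h ⊢
  exact ⟨⟨⟨⟨⟨h.1.1.1, h.1.1.2⟩, big_derived⟩, h.1.2⟩, big_levels⟩, h.2⟩

theorem big_order : (Nat.beq (certOrder bigLevels) 495766656000 &&
    ((bigLevels.map fun l => l.1).take 5).all (fun b => basePts.any fun c => Nat.beq c b) &&
    Nat.beq ((bigLevels.map fun l => l.1).take 5).length 5 &&
    ((bigLevels.map fun l => l.1).take 4).all (fun b => (basePts.take 4).any fun c => Nat.beq c b)) = true := by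
  decide +kernel

end Cfsg.Agent.CoThreeInvol
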