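import Cfsg.Agent.Lib.CoThreeInvol.CertBig

/-! Elements fixing five fixed points that centralise the involution. -/

set_option autoImplicit false
set_option maxRecDepth 100000
set_option Elab.async false

namespace Cfsg.Agent.CoThreeInvol

open Cfsg.Agent.PermCert

theorem five_bound : Nat.ble ((fixProds bigLevels 5 (idCode 9 276)).countP fun c => intertw c zCode.1 zCode.1) 2 = true := by
  decide +kernel

theorem four_bound : Nat.ble ((fixProds bigLevels 4 (idCode 9 276)).countP fun c =>
    intertw c zCode.1 zCode.1 && intertw c mCode.1 mCode.1) 8 = true := by decide +kernel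

end Cfsg.Agent.CoThreeInvol
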