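import Cfsg.Agent.Lib.CoThreeInvol.Defs
import Cfsg.Agent.Lib.CoThreeInvol.BigData

/-! The trees of the chain of Co3 through five fixed points of an involution. -/

set_option autoImplicit false
set_option maxRecDepth 100000
set_option Elab.async false

namespace Cfsg.Agent.CoThreeInvol

open Cfsg.Agent.PermCert

theorem big_levels : lightLevels 9 276 bigLevels = true := by decide +kernel

end Cfsg.Agent.CoThreeInvol
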