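import Cfsg.Agent.Lib.CoThreeInvol.CertBigB

/-! Kernel checks for the centralisers. -/

set_option autoImplicit false
set_option maxRecDepth 100000
set_option Elab.async false

namespace Cfsg.Agent.CoThreeInvol

open Cfsg.Agent.PermCert

theorem code_facts : (inGroup zCode && inGroup aCode && inGroup mCode && inGroup yCode && inGroup fiveCode &&
    invOK zCode.1 && Nat.beq (fixCount zCode.1) 12 && isAOK aCode.1 &&
    invOK mCode.1 && Nat.beq (fixCount mCode.1) 12 && isAOK yCode.1 &&
    intertw mCode.1 zCode.1 zCode.1 && intertw yCode.1 zCode.1 zCode.1 && intertw yCode.1 mCode.1 mCode.1 &&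
    intertw fiveCode.1 zCode.1 zCode.1 && intertw fiveCode.1 mCode.1 mCode.1 &&
    Nat.beq (fixCount mzCode) 12 &&
    Nat.beq (fixCount (comp 9 276 yCode.1 zCode.1)) 12 && Nat.beq (fixCount (comp 9 276 yCode.1 mCode.1)) 12 &&
    Nat.beq (fixCount (comp 9 276 yCode.1 mzCode)) 12 &&
    basePts.all (fun b => Nat.blt b 276 && Nat.beq (get 9 zCode.1 b) b) &&
    Nat.beq (get 9 mCode.1 29) 33 && Nat.beq (get 9 mCode.1 55) 220 &&
    ((List.range 276).any fun i => !Nat.beq (get 9 fiveCode.1 i) i) &&
    (List.range 276).all fun i => Nat.beq (get 9 fiveCode.1 (get 9 fiveCode.1 (get 9 fiveCode.1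
      (get 9 fiveCode.1 (get 9 fiveCode.1 i))))) i) = true := by
  decide +kernel

theorem cen_gens : (Nat.beq (certOrder cenLevels) 190080 &&
    cenGens.all fun g => inGroup g && intertw g.1 zCode.1 zCode.1) = true := by decide +kernel

theorem cen_light : lightCert 9 276 cenGens cenDerived cenLevels = true := by decide +kernel

end Cfsg.Agent.CoThreeInvol
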