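import Cfsg.Agent.Lib.CoThreeInvol.CertPair

/-! Kernel checks on the elements of the centralisers. -/

set_option autoImplicit false
set_option maxRecDepth 100000
set_option Elab.async false

namespace Cfsg.Agent.CoThreeInvol

open Cfsg.Agent.PermCert

theorem sylCen_ok : (fun P => Nat.beq P.length sylCenConj.length && (P.zip sylCenConj).all fun p => cenTest P p.1 p.2)
    (prods sylCenLevels (idCode 9 276)) = true := by decide +kernel

theorem pair_count : Nat.ble ((prods pairLevels (idCode 9 276)).countP fun c => intertw c yCode.1 yCode.1) 32 = true := by
  decide +kernel

end Cfsg.Agent.CoThreeInvol
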