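import Cfsg.Agent.Lib.CoThreeInvol.CertCent

/-! Chains of the small groups. -/

set_option autoImplicit false
set_option maxRecDepth 100000
set_option Elab.async false

namespace Cfsg.Agent.CoThreeInvol

open Cfsg.Agent.PermCert

theorem pair_cert : checkCert 9 276 pairGens pairDerived pairLevels = true := by decide +kernel

theorem pair_gens : (Nat.beq (certOrder pairLevels) 480 &&
    pairGens.all fun g => inGroup g && intertw g.1 zCode.1 zCode.1 && intertw g.1 mCode.1 mCode.1) = true := by
  decide +kernel

theorem pair_light : lightCert 9 276 pairGens pairDerived pairLevels = true := by decide +kernel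

theorem sylCen_cert : checkCert 9 276 sylCenGens sylCenDerived sylCenLevels = true := by decide +kernel

theorem sylCen_gens : (Nat.beq (certOrder sylCenLevels) 128 &&
    sylCenGens.all fun g => inGroup g && intertw g.1 zCode.1 zCode.1) = true := by decide +kernel

theorem sylCen_light : lightCert 9 276 sylCenGens sylCenDerived sylCenLevels = true := by decide +kernel

end Cfsg.Agent.CoThreeInvol
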