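import Cfsg.Agent.Lib.CoThreeInvol.CertHit
import Cfsg.Agent.Lib.CoThreeInvol.SylowData

/-! Kernel checks for the Sylow 2-subgroup. -/

set_option autoImplicit false
set_option maxRecDepth 100000
set_option Elab.async false

namespace Cfsg.Agent.CoThreeInvol

open Cfsg.Agent.PermCert

theorem syl_cert : checkCert 9 276 sylGens sylDerived sylLevels = true := by decide +kernel

theorem syl_gens : (Nat.beq (certOrder sylLevels) 1024 && sylGens.all inGroup) = true := by decide +kernel

end Cfsg.Agent.CoThreeInvol
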