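import Cfsg.Agent.Lib.CoThreeInvol.CertSylowLight

/-! Every involution of the Sylow 2-subgroup is conjugate to one of the two. -/

set_option autoImplicit false
set_option maxRecDepth 100000
set_option Elab.async false

namespace Cfsg.Agent.CoThreeInvol

open Cfsg.Agent.PermCert

theorem syl_ok : (fun P => Nat.beq P.length sylConj.length && (P.zip sylConj).all fun p => sylTest p.1 p.2)
    (prods sylLevels (idCode 9 276)) = true := by decide +kernel

end Cfsg.Agent.CoThreeInvol
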