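import Cfsg.Agent.Lib.CoThreeInvol.CertSylow

/-! The chain of the Sylow 2-subgroup. -/

set_option autoImplicit false
set_option maxRecDepth 100000
set_option Elab.async false

namespace Cfsg.Agent.CoThreeInvol

open Cfsg.Agent.PermCert

theorem syl_light : lightCert 9 276 sylGens sylDerived sylLevels = true := by decide +kernel

end Cfsg.Agent.CoThreeInvol
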