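import Cfsg.Agent.Lib.CoThreeInvol.Basic
import Cfsg.Agent.Lib.CoThreeInvol.CentData
import Cfsg.Agent.Lib.SporPerm.Co3Data

/-! Tests on codes for the involutions of the coded Co3. -/

set_option autoImplicit false
set_option maxRecDepth 100000
set_option Elab.async false

namespace Cfsg.Agent.CoThreeInvol

open Cfsg.Agent.PermCert

/-- A code of an element of the coded Co3. -/
def inGroup (e : Elt) : Bool := validElt 9 276 e && sift 9 276 SporPerm.co3Levels e.1

/-- An element of the Sylow subgroup is no involution, or is conjugate to one of the two. -/
def sylTest (q : ℕ) (e : Elt) : Bool :=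
  !invOK q || sameCode q (idCode 9 276) ||
    (inGroup e && (intertw e.1 q aCode.1 || intertw e.1 q zCode.1))

/-- The code of the product of the second involution with the first. -/
def mzCode : ℕ := comp 9 276 mCode.1 zCode.1

/-- An element of the Sylow subgroup of the centraliser: no root of the central involution; if it is another
involution it has thirty-six fixed points, or its product has, or it is conjugate in the centraliser to one of two
involutions and its centraliser in the Sylow subgroup is small. -/
def cenTest (L : List ℕ) (q : ℕ) (e : Elt) : Bool :=
  ((List.range 276).any fun i => !Nat.beq (get 9 q (get 9 q i)) (get 9 zCode.1 i)) &&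
    (!invOK q || sameCode q (idCode 9 276) || sameCode q zCode.1 || Nat.beq (fixCount q) 36 ||
      Nat.beq (fixCount (comp 9 276 q zCode.1)) 36 ||
      (inGroup e && intertw e.1 zCode.1 zCode.1 && (intertw e.1 q mCode.1 || intertw e.1 q mzCode) &&
        Nat.blt (L.countP fun r => intertw r q q) 64))

/-- The code of a word in four codes. -/
def wordAt (a b c d : ℕ) : List ℕ → ℕ
  | [] => idCode 9 276
  | [k] => bif Nat.beq k 0 then a else bif Nat.beq k 1 then b else bif Nat.beq k 2 then c else d
  | k :: l => comp 9 276 (bif Nat.beq k 0 then a else bif Nat.beq k 1 then b else bif Nat.beq k 2 then c else d)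
      (wordAt a b c d l)

/-- The twenty products of a power of the element of order five with one of the four central elements. -/
def fiveSet : List ℕ :=
  (List.range 5).flatMap fun k => [idCode 9 276, zCode.1, mCode.1, mzCode].map fun v =>
    Nat.rec v (fun _ c => comp 9 276 fiveCode.1 c) k

/-- An element of the pair centraliser lies among the twenty, or generates with the element of order five an
involution with thirty-six fixed points. -/
def hitTest (b : ℕ) : Bool :=
  (fiveSet.any fun c => sameCode b c) ||
    hitWords.any fun w => isAOK (wordAt fiveCode.1 b zCode.1 mCode.1 w)

end Cfsg.Agent.CoThreeInvol
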