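import Cfsg.Agent.Lib.CoThreeInvol.CertSylowB
import Cfsg.Agent.Lib.SporPerm.Co3Model
import Mathlib.GroupTheory.Sylow

/-!
Involutions of the coded Co3: two classes, the centraliser of order 190080, and inside it the centraliser of a
second involution.
-/

set_option autoImplicit false
set_option maxRecDepth 100000

namespace Cfsg.Agent.CoThreeInvol

open Cfsg.Agent.PermCert
open Cfsg.Agent.PermAut (Fwd fwd_rep)

theorem wordAt_nil (a b c d : ℕ) : wordAt a b c d [] = idCode 9 276 := rfl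

theorem wordAt_single (a b c d k : ℕ) : wordAt a b c d [k] =
    bif Nat.beq k 0 then a else bif Nat.beq k 1 then b else bif Nat.beq k 2 then c else d := rfl

theorem wordAt_cons (a b c d k k' : ℕ) (l : List ℕ) : wordAt a b c d (k :: k' :: l) =
    comp 9 276 (bif Nat.beq k 0 then a else bif Nat.beq k 1 then b else bif Nat.beq k 2 then c else d)
      (wordAt a b c d (k' :: l)) := rfl

attribute [local irreducible] zCode aCode mCode yCode fiveCode hitWords basePts bigDerived bigLevels cenGens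
  cenDerived cenLevels pairGens pairDerived pairLevels sylCenGens sylCenDerived sylCenLevels sylCenConj sylGens
  sylDerived sylLevels sylConj SporPerm.co3Gens SporPerm.co3Derived SporPerm.co3Levels comp idCode prods fixProds
  fiveSet mzCode intertw invOK fixCount sameCode

/-- The coded Co3. -/
abbrev MC : Subgroup Pm := genGroup 9 276 SporPerm.co3Gens

theorem card_MC : Nat.card MC = 495766656000 := (cert_card SporPerm.co3_cert).trans SporPerm.co3_order

theorem inGroup_spec {e : Elt} (h : inGroup e = true) : toPerm 9 276 e ∈ MC ∧ Fwd 9 (e.1, toPerm 9 276 e) := by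
  rw [inGroup, Bool.and_eq_true] at h
  exact ⟨cert_mem SporPerm.co3_cert h.1 h.2, fwd_rep (rep_toPerm h.1)⟩

/-- An involution with twelve fixed points. -/
noncomputable def zM : Pm := toPerm 9 276 zCode

/-- An involution with thirty-six fixed points. -/
noncomputable def aM : Pm := toPerm 9 276 aCode

/-- A second involution with twelve fixed points. -/
noncomputable def mM : Pm := toPerm 9 276 mCode

/-- An involution with thirty-six fixed points commuting with both. -/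
noncomputable def yM : Pm := toPerm 9 276 yCode

/-- An element of order five commuting with both. -/
noncomputable def fM : Pm := toPerm 9 276 fiveCode

section Facts

theorem zM_spec : zM ∈ MC ∧ Fwd 9 (zCode.1, zM) := by have h := code_facts; simp only [Bool.and_eq_true] at h; exact inGroup_spec h.1.1.1.1.1.1.1.1.1.1.1.1.1.1.1.1.1.1.1.1.1.1.1.1
theorem aM_spec : aM ∈ MC ∧ Fwd 9 (aCode.1, aM) := by have h := code_facts; simp only [Bool.and_eq_true] at h; exact inGroup_spec h.1.1.1.1.1.1.1.1.1.1.1.1.1.1.1.1.1.1.1.1.1.1.1.2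
theorem mM_spec : mM ∈ MC ∧ Fwd 9 (mCode.1, mM) := by have h := code_facts; simp only [Bool.and_eq_true] at h; exact inGroup_spec h.1.1.1.1.1.1.1.1.1.1.1.1.1.1.1.1.1.1.1.1.1.1.2
theorem yM_spec : yM ∈ MC ∧ Fwd 9 (yCode.1, yM) := by have h := code_facts; simp only [Bool.and_eq_true] at h; exact inGroup_spec h.1.1.1.1.1.1.1.1.1.1.1.1.1.1.1.1.1.1.1.1.1.2
theorem fM_spec : fM ∈ MC ∧ Fwd 9 (fiveCode.1, fM) := by have h := code_facts; simp only [Bool.and_eq_true] at h; exact inGroup_spec h.1.1.1.1.1.1.1.1.1.1.1.1.1.1.1.1.1.1.1.1.2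

theorem mz_fwd : Fwd 9 (mzCode, mM * zM) := by unfold mzCode; exact fwd_mul mM_spec.2 zM_spec.2

theorem zM_sq : zM * zM = 1 := by have h := code_facts; simp only [Bool.and_eq_true] at h; exact (invOK_iff zM_spec.2).1 h.1.1.1.1.1.1.1.1.1.1.1.1.1.1.1.1.1.1.1.2
theorem zM_fix : nFix zM = 12 := by
  have h := code_facts; simp only [Bool.and_eq_true] at h; rw [← fixCount_eq zM_spec.2]; exact Nat.eq_of_beq_eq_true h.1.1.1.1.1.1.1.1.1.1.1.1.1.1.1.1.1.1.2
theorem aM_isA : IsA aM := by have h := code_facts; simp only [Bool.and_eq_true] at h; exact (isAOK_iff aM_spec.2).1 h.1.1.1.1.1.1.1.1.1.1.1.1.1.1.1.1.1.2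
theorem mM_sq : mM * mM = 1 := by have h := code_facts; simp only [Bool.and_eq_true] at h; exact (invOK_iff mM_spec.2).1 h.1.1.1.1.1.1.1.1.1.1.1.1.1.1.1.1.2
theorem mM_fix : nFix mM = 12 := by
  have h := code_facts; simp only [Bool.and_eq_true] at h; rw [← fixCount_eq mM_spec.2]; exact Nat.eq_of_beq_eq_true h.1.1.1.1.1.1.1.1.1.1.1.1.1.1.1.2
theorem yM_isA : IsA yM := by have h := code_facts; simp only [Bool.and_eq_true] at h; exact (isAOK_iff yM_spec.2).1 h.1.1.1.1.1.1.1.1.1.1.1.1.1.1.2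
theorem mz_comm : mM * zM = zM * mM := by
  have h := code_facts; simp only [Bool.and_eq_true] at h; exact (intertw_iff mM_spec.2 zM_spec.2 zM_spec.2).1 h.1.1.1.1.1.1.1.1.1.1.1.1.1.2
theorem yz_comm : yM * zM = zM * yM := by
  have h := code_facts; simp only [Bool.and_eq_true] at h; exact (intertw_iff yM_spec.2 zM_spec.2 zM_spec.2).1 h.1.1.1.1.1.1.1.1.1.1.1.1.2
theorem ym_comm : yM * mM = mM * yM := by
  have h := code_facts; simp only [Bool.and_eq_true] at h; exact (intertw_iff yM_spec.2 mM_spec.2 mM_spec.2).1 h.1.1.1.1.1.1.1.1.1.1.1.2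
theorem fz_comm : fM * zM = zM * fM := by
  have h := code_facts; simp only [Bool.and_eq_true] at h; exact (intertw_iff fM_spec.2 zM_spec.2 zM_spec.2).1 h.1.1.1.1.1.1.1.1.1.1.2
theorem fm_comm : fM * mM = mM * fM := by
  have h := code_facts; simp only [Bool.and_eq_true] at h; exact (intertw_iff fM_spec.2 mM_spec.2 mM_spec.2).1 h.1.1.1.1.1.1.1.1.1.2
theorem mz_fix : nFix (mM * zM) = 12 := by
  have h := code_facts; simp only [Bool.and_eq_true] at h; rw [← fixCount_eq mz_fwd]; exact Nat.eq_of_beq_eq_true h.1.1.1.1.1.1.1.1.2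
theorem yz_fix : nFix (yM * zM) = 12 := by
  have h := code_facts; simp only [Bool.and_eq_true] at h; rw [← fixCount_eq (fwd_mul yM_spec.2 zM_spec.2)]; exact Nat.eq_of_beq_eq_true h.1.1.1.1.1.1.1.2
theorem ym_fix : nFix (yM * mM) = 12 := by
  have h := code_facts; simp only [Bool.and_eq_true] at h; rw [← fixCount_eq (fwd_mul yM_spec.2 mM_spec.2)]; exact Nat.eq_of_beq_eq_true h.1.1.1.1.1.1.2
theorem ymz_fix : nFix (yM * (mM * zM)) = 12 := by
  have h := code_facts; simp only [Bool.and_eq_true] at h; rw [← fixCount_eq (fwd_mul yM_spec.2 mz_fwd)]; exact Nat.eq_of_beq_eq_true h.1.1.1.1.1.2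

theorem base_fix {i : Fin 276} (hi : (i : ℕ) ∈ basePts) : zM i = i := by
  have h := code_facts
  simp only [Bool.and_eq_true] at h
  have h' := List.all_eq_true.1 h.1.1.1.1.2 i hi
  rw [Bool.and_eq_true] at h'
  exact Fin.ext ((zM_spec.2 i).symm.trans (Nat.eq_of_beq_eq_true h'.2))

theorem mM_base : mM ⟨29, by norm_num⟩ = ⟨33, by norm_num⟩ ∧ mM ⟨55, by norm_num⟩ = ⟨220, by norm_num⟩ := by
  have h := code_facts
  simp only [Bool.and_eq_true] at h
  exact ⟨Fin.ext ((mM_spec.2 ⟨29, by norm_num⟩).symm.trans (Nat.eq_of_beq_eq_true h.1.1.1.2)),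
    Fin.ext ((mM_spec.2 ⟨55, by norm_num⟩).symm.trans (Nat.eq_of_beq_eq_true h.1.1.2))⟩

theorem orderOf_fM : orderOf fM = 5 := by
  have h := code_facts
  simp only [Bool.and_eq_true] at h
  have hne : fM ≠ 1 := by
    intro e
    obtain ⟨i, hi, h'⟩ := List.any_eq_true.1 h.1.2
    rw [List.mem_range] at hi
    rw [show get 9 fiveCode.1 i = (fM ⟨i, hi⟩ : ℕ) from fM_spec.2 ⟨i, hi⟩, e] at h'
    simp at h'
  haveI : Fact (Nat.Prime 5) := ⟨by norm_num⟩
  refine orderOf_eq_prime (Equiv.ext fun i => Fin.ext ?_) hne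
  have h' := Nat.eq_of_beq_eq_true (List.all_eq_true.1 h.2 i (List.mem_range.2 i.2))
  have hp : ∀ j : Fin 276, get 9 fiveCode.1 j = (fM j : ℕ) := fM_spec.2
  rw [hp, hp, hp, hp, hp] at h'
  rw [show fM ^ 5 = fM * (fM * (fM * (fM * fM))) by simp [pow_succ, mul_assoc]]
  simpa only [Equiv.Perm.mul_apply, Equiv.Perm.one_apply] using h'

end Facts

/-- A `2`-subgroup, or more generally a `p`-subgroup, is conjugate into a subgroup of the `p`-part order. -/
theorem exists_conj_into {p : ℕ} [Fact p.Prime] {K S P : Subgroup Pm} (hS : S ≤ K) (hPK : P ≤ K) (hP : IsPGroup p P)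
    {n r : ℕ} (hcS : Nat.card S = p ^ n) (hcK : Nat.card K = p ^ n * r) (hr : ¬ p ∣ r) :
    ∃ a ∈ K, ∀ x ∈ P, a * x * a⁻¹ ∈ S := by
  have hr0 : r ≠ 0 := fun e => hr (e ▸ dvd_zero p)
  have hfac : (Nat.card K).factorization p = n := by
    rw [hcK, Nat.factorization_mul (pow_ne_zero _ (Nat.Prime.ne_zero Fact.out)) hr0, Finsupp.add_apply,
      Nat.Prime.factorization_pow Fact.out, Finsupp.single_eq_same, Nat.factorization_eq_zero_of_not_dvd hr,
      add_zero]
  let T : Sylow p K := Sylow.ofCard (S.subgroupOf K) (by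
    rw [Nat.card_congr (Subgroup.subgroupOfEquivOfLe hS).toEquiv, hcS, hfac])
  have hp' : IsPGroup p (P.subgroupOf K) := hP.of_equiv (Subgroup.subgroupOfEquivOfLe hPK).symm
  obtain ⟨Q, hQ⟩ := hp'.exists_le_sylow
  obtain ⟨g, hg⟩ := MulAction.exists_smul_eq K Q T
  refine ⟨g, g.2, fun x hx => ?_⟩
  have h : g * ⟨x, hPK hx⟩ * g⁻¹ ∈ S.subgroupOf K := by
    have h : ((g • Q : Sylow p K) : Subgroup K) = S.subgroupOf K := by rw [hg]; rfl
    rw [← h]
    exact Subgroup.mem_map.2 ⟨_, hQ (Subgroup.mem_subgroupOf.2 hx), rfl⟩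
  exact Subgroup.mem_subgroupOf.1 h

/-- Orbit and stabiliser: a bound. -/
theorem card_le_step (K : Subgroup Pm) (b : Fin 276) (A : Finset (Fin 276)) (hA : ∀ g ∈ K, g b ∈ A) :
    Nat.card K ≤ A.card * Nat.card ↥(K ⊓ MulAction.stabilizer Pm b) := by
  classical
  let r : Fin 276 → Pm := fun a => if h : ∃ g ∈ K, g b = a then h.choose else 1
  have hr : ∀ g : K, r (g.1 b) ∈ K ∧ r (g.1 b) b = g.1 b := fun g => by
    have h : ∃ g' ∈ K, g' b = g.1 b := ⟨g, g.2, rfl⟩
    simp only [r, dif_pos h]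
    exact h.choose_spec
  rw [← Fintype.card_coe A, ← Nat.card_eq_fintype_card, ← Nat.card_prod]
  refine Nat.card_le_card_of_injective (fun g => (⟨g.1 b, hA g g.2⟩, ⟨(r (g.1 b))⁻¹ * g.1,
    K.mul_mem (K.inv_mem (hr g).1) g.2, ?_⟩)) fun g g' e => ?_
  · show ((r (g.1 b))⁻¹ * g.1) b = b
    rw [Equiv.Perm.mul_apply, Equiv.Perm.inv_def, Equiv.symm_apply_eq, (hr g).2]
  · have e1 : g.1 b = g'.1 b := congrArg (fun q => (q.1 : Fin 276)) e
    have e2 := congrArg (fun q => (q.2 : Pm)) e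
    simp only [e1] at e2
    exact Subtype.ext (mul_left_cancel e2)

/-- The full chain is the group. -/
theorem lightSet_eq {gens : List Elt} {derived : List (Elt × List ℕ)} {levels : List CLevel}
    (h : lightCert 9 276 gens derived levels = true) (hc : Nat.card (genGroup 9 276 gens) = certOrder levels) :
    lightSet 9 276 levels = (genGroup 9 276 gens : Set Pm) := by
  obtain ⟨hs, -, -, hsub⟩ := light_facts h
  exact Set.eq_of_subset_of_ncard_le ((lightSet_subset hs).trans hsub)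
    (by rw [ncard_lightSet hs, ← hc, ← Nat.card_coe_set_eq]; rfl)

theorem exists_prod {gens : List Elt} {derived : List (Elt × List ℕ)} {levels : List CLevel}
    (h : lightCert 9 276 gens derived levels = true) (hc : Nat.card (genGroup 9 276 gens) = certOrder levels)
    {σ : Pm} (hσ : σ ∈ genGroup 9 276 gens) : ∃ c ∈ prods levels (idCode 9 276), Fwd 9 (c, σ) := by
  obtain ⟨c, hc', hf⟩ := prods_spec levels fwd_one ((lightSet_eq h hc).symm ▸ hσ : σ ∈ lightSet 9 276 levels)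
  exact ⟨c, hc', by rwa [one_mul] at hf⟩

theorem card_syl : Nat.card (genGroup 9 276 sylGens) = 2 ^ 10 := by
  have h := syl_gens
  simp only [Bool.and_eq_true, Nat.beq_eq] at h
  rw [cert_card syl_cert, h.1]; norm_num

theorem syl_le : genGroup 9 276 sylGens ≤ MC := by
  refine (Subgroup.closure_le _).2 fun τ hτ => ?_
  obtain ⟨g, hg, rfl⟩ := List.mem_map.1 hτ
  have h := syl_gens
  simp only [Bool.and_eq_true] at h
  exact (inGroup_spec (List.all_eq_true.1 h.2 g hg)).1

theorem invOrder {σ : Pm} (h2 : σ * σ = 1) : IsPGroup 2 (Subgroup.zpowers σ) := by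
  rintro ⟨g, i, rfl⟩
  refine ⟨1, Subtype.ext ?_⟩
  show (σ ^ i) ^ (2 ^ 1) = 1
  rw [pow_one, pow_two, ← (Commute.refl σ).mul_zpow, h2, one_zpow]

theorem invol_cases {σ : Pm} (hσ : σ ∈ MC) (h2 : σ * σ = 1) (h1 : σ ≠ 1) :
    (∃ a ∈ MC, a * σ * a⁻¹ = aM) ∨ ∃ a ∈ MC, a * σ * a⁻¹ = zM := by
  haveI : Fact (Nat.Prime 2) := ⟨Nat.prime_two⟩
  obtain ⟨g, hg, hgS⟩ := exists_conj_into syl_le (Subgroup.zpowers_le.2 hσ) (invOrder h2) (n := 10) (r := 484147125)
    card_syl (by rw [card_MC]; norm_num) (by norm_num)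
  obtain ⟨c, hc, hf⟩ := exists_prod syl_light (cert_card syl_cert) (hgS σ (Subgroup.mem_zpowers σ))
  have hok := syl_ok
  simp only [Bool.and_eq_true, Nat.beq_eq] at hok
  obtain ⟨e, he⟩ := exists_zip hok.1 hc
  have h := List.all_eq_true.1 hok.2 _ he
  simp only [sylTest, Bool.or_eq_true, Bool.and_eq_true, Bool.not_eq_true'] at h
  rcases h with (h | h) | ⟨hin, h⟩
  · exfalso
    rw [(invOK_iff hf).2 (by rw [conj_mul, h2]; group)] at h
    simp at h
  · exact absurd (conj_eq_one_iff.1 ((sameCode_iff hf fwd_one).1 h)) h1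
  · obtain ⟨hk, hfk⟩ := inGroup_spec hin
    rcases h with h | h
    · refine Or.inl ⟨_, mul_mem hk hg, ?_⟩
      rw [mul_inv_eq_iff_eq_mul, ← mul_assoc, ← (intertw_iff hfk hf aM_spec.2).1 h]
      group
    · refine Or.inr ⟨_, mul_mem hk hg, ?_⟩
      rw [mul_inv_eq_iff_eq_mul, ← mul_assoc, ← (intertw_iff hfk hf zM_spec.2).1 h]
      group

/-- The centraliser of the involution with twelve fixed points. -/
noncomputable def CZ : Subgroup Pm := MC ⊓ Subgroup.centralizer {zM}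

theorem mem_CZ {g : Pm} : g ∈ CZ ↔ g ∈ MC ∧ g * zM = zM * g := by
  rw [CZ, Subgroup.mem_inf, Subgroup.mem_centralizer_singleton_iff]

theorem mem_fixZ {g : Pm} (hg : g ∈ CZ) {i : Fin 276} (hi : zM i = i) : zM (g i) = g i := by
  rw [← Equiv.Perm.mul_apply, ← (mem_CZ.1 hg).2, Equiv.Perm.mul_apply, hi]

/-- The fixed points of the involution, without some of them. -/
noncomputable def fixSet (l : List (Fin 276)) : Finset (Fin 276) :=
  (Finset.univ.filter fun i => zM i = i) \ l.toFinset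

theorem card_fixSet {l : List (Fin 276)} (hl : l.Nodup) (h : ∀ i ∈ l, zM i = i) :
    (fixSet l).card = 12 - l.length := by
  classical
  rw [fixSet, Finset.card_sdiff_of_subset (by intro i hi; simpa using h i (List.mem_toFinset.1 hi)),
    List.toFinset_card_of_nodup hl, ← Fintype.card_subtype, ← Nat.card_eq_fintype_card]
  rw [show Nat.card {i // zM i = i} = 12 from zM_fix]

theorem mem_fixSet {g : Pm} (hg : g ∈ CZ) {l : List (Fin 276)} (hl : ∀ i ∈ l, g i = i) {b : Fin 276}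
    (hb : zM b = b) (hbl : b ∉ l) : g b ∈ fixSet l := by
  classical
  simp only [fixSet, Finset.mem_sdiff, Finset.mem_filter, Finset.mem_univ, true_and, List.mem_toFinset]
  refine ⟨mem_fixZ hg hb, fun h => hbl ?_⟩
  rwa [g.injective (hl _ h)] at h

/-- The fixer of a list of points. -/
def fixer : List (Fin 276) → Subgroup Pm
  | [] => ⊤
  | b :: l => MulAction.stabilizer Pm b ⊓ fixer l

theorem mem_fixer {g : Pm} : ∀ {l : List (Fin 276)}, g ∈ fixer l ↔ ∀ i ∈ l, g i = i
  | [] => by simp [fixer]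
  | b :: l => by simp [fixer, Subgroup.mem_inf, mem_fixer, MulAction.mem_stabilizer_iff, Equiv.Perm.smul_def]

theorem step_CZ {K : Subgroup Pm} (hK : K ≤ CZ) {l : List (Fin 276)} {b : Fin 276} (hl : l.Nodup)
    (hlz : ∀ i ∈ l, zM i = i) (hb : zM b = b) (hbl : b ∉ l) :
    Nat.card ↥(K ⊓ fixer l) ≤ (12 - l.length) * Nat.card ↥(K ⊓ fixer (b :: l)) := by
  rw [← card_fixSet hl hlz]
  refine (card_le_step (K ⊓ fixer l) b _ fun g hg => mem_fixSet (hK hg.1) (mem_fixer.1 hg.2) hb hbl).trans (le_of_eq ?_)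
  rw [show K ⊓ fixer l ⊓ MulAction.stabilizer Pm b = K ⊓ fixer (b :: l) from by
    rw [fixer, inf_assoc, inf_comm (fixer l)]]

/-- The five base points. -/
def pts : List (Fin 276) := [⟨71, by norm_num⟩, ⟨220, by norm_num⟩, ⟨55, by norm_num⟩, ⟨33, by norm_num⟩,
  ⟨29, by norm_num⟩]

theorem pts_base : pts.map Fin.val = [71, 220, 55, 33, 29] := rfl

theorem basePts_eq : basePts = [29, 33, 55, 220, 71] := by unfold basePts; rfl

theorem pts_fix : ∀ i ∈ pts, zM i = i := fun i hi => base_fix (by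
  have : (i : ℕ) ∈ pts.map Fin.val := List.mem_map.2 ⟨i, hi, rfl⟩
  rw [pts_base] at this
  rw [basePts_eq]
  simp only [List.mem_cons, List.not_mem_nil, or_false] at this ⊢
  omega)

theorem exists_big {g : Pm} (hg : g ∈ MC) (k : ℕ) (l : List (Fin 276)) (hl : ∀ i ∈ l, g i = i)
    (hk : ((bigLevels.map fun t => t.1).take k).all (fun b => l.any fun c => Nat.beq c b) = true) :
    ∃ c ∈ fixProds bigLevels k (idCode 9 276), Fwd 9 (c, g) := by
  have hbo := big_order
  simp only [Bool.and_eq_true, Nat.beq_eq] at hbo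
  obtain ⟨hs, -, -, -⟩ := light_facts big_light
  have heq := lightSet_eq big_light (card_MC.trans hbo.1.1.1.symm)
  obtain ⟨c, hc, hf⟩ := fixProds_spec bigLevels hs k fwd_one (heq.symm ▸ hg : g ∈ lightSet 9 276 bigLevels)
    (fun i hi => by
      rw [one_mul]
      obtain ⟨j, hj, e⟩ := List.any_eq_true.1 (List.all_eq_true.1 hk _ hi)
      rw [Nat.beq_eq] at e
      rw [← Fin.ext e]
      exact hl j hj)
  exact ⟨c, hc, by rwa [one_mul] at hf⟩

theorem card_le_countP {K : Subgroup Pm} {L : List ℕ} {p : ℕ → Bool} {k : ℕ}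
    (h : ∀ g ∈ K, ∃ c ∈ L, Fwd 9 (c, g) ∧ p c = true) (hk : L.countP p ≤ k) : Nat.card K ≤ k := by
  choose f hf hff hp using fun x : K => h x x.2
  refine (Nat.card_le_card_of_injective (fun x => (⟨f x, List.mem_toFinset.2 (List.mem_filter.2 ⟨hf x, hp x⟩)⟩ :
    {c // c ∈ (L.filter p).toFinset})) fun a b e => ?_).trans ?_
  · exact Subtype.ext (eq_of_codes (hff a) (hff b) fun i _ => by rw [show f a = f b from Subtype.ext_iff.1 e])
  · rw [Nat.card_eq_fintype_card, Fintype.card_coe]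
    exact (List.toFinset_card_le _).trans (by rwa [← List.countP_eq_length_filter])

theorem any_of_take {k : ℕ} {l : List (Fin 276)}
    (h : ((bigLevels.map fun t => t.1).take k).all (fun b => (basePts.take k).any fun c => Nat.beq c b) = true)
    (hl : ∀ x ∈ basePts.take k, ∃ i ∈ l, (i : ℕ) = x) :
    ((bigLevels.map fun t => t.1).take k).all (fun b => l.any fun c => Nat.beq c b) = true := by
  simp only [List.all_eq_true, List.any_eq_true, Nat.beq_eq] at h ⊢
  intro b hb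
  obtain ⟨x, hx, e⟩ := h b hb
  obtain ⟨i, hi, e'⟩ := hl x hx
  exact ⟨i, hi, e'.trans e⟩

theorem card_CZ_le : Nat.card CZ ≤ 190080 := by
  have h5 : Nat.card ↥(CZ ⊓ fixer pts) ≤ 2 := by
    refine card_le_countP (fun g hg => ?_) (Nat.le_of_ble_eq_true five_bound)
    have hbo := big_order
    simp only [Bool.and_eq_true] at hbo
    obtain ⟨c, hc, hf⟩ := exists_big (mem_CZ.1 hg.1).1 5 pts (mem_fixer.1 hg.2)
      (any_of_take (by
        have h := hbo.1.1.2
        rwa [List.take_of_length_le (by rw [basePts_eq]; rfl : basePts.length ≤ 5)]) fun x hx => by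
        rw [basePts_eq] at hx
        simp only [List.take_succ_cons, List.take_zero, List.mem_cons, List.not_mem_nil, or_false] at hx
        rcases hx with rfl | rfl | rfl | rfl | rfl <;> exact ⟨⟨_, by norm_num⟩, by simp [pts], rfl⟩)
    exact ⟨c, hc, hf, (intertw_iff hf zM_spec.2 zM_spec.2).2 (mem_CZ.1 hg.1).2⟩
  have hz := pts_fix
  simp only [pts, List.forall_mem_cons, List.not_mem_nil, false_imp_iff, implies_true, and_true] at hz
  obtain ⟨z1, z2, z3, z4, z5⟩ := hz
  have s5 := step_CZ (K := CZ) le_rfl (l := []) List.nodup_nil (by simp) z5 (by simp)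
  have s4 := step_CZ (K := CZ) le_rfl (l := [(⟨29, by norm_num⟩ : Fin 276)]) (List.nodup_singleton _) (by simp only [List.forall_mem_cons, List.not_mem_nil, false_imp_iff, implies_true, and_true]; exact z5) z4 (by simp)
  have s3 := step_CZ (K := CZ) le_rfl (l := [(⟨33, by norm_num⟩ : Fin 276), (⟨29, by norm_num⟩ : Fin 276)]) (by simp) (by simp only [List.forall_mem_cons, List.not_mem_nil, false_imp_iff, implies_true, and_true]; exact ⟨z4, z5⟩) z3 (by simp)
  have s2 := step_CZ (K := CZ) le_rfl (l := [(⟨55, by norm_num⟩ : Fin 276), (⟨33, by norm_num⟩ : Fin 276), (⟨29, by norm_num⟩ : Fin 276)]) (by simp) (by simp only [List.forall_mem_cons, List.not_mem_nil, false_imp_iff, implies_true, and_true]; exact ⟨z3, z4, z5⟩) z2 (by simp)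
  have s1 := step_CZ (K := CZ) le_rfl (l := [(⟨220, by norm_num⟩ : Fin 276), (⟨55, by norm_num⟩ : Fin 276), (⟨33, by norm_num⟩ : Fin 276), (⟨29, by norm_num⟩ : Fin 276)]) (by simp) (by simp only [List.forall_mem_cons, List.not_mem_nil, false_imp_iff, implies_true, and_true]; exact ⟨z2, z3, z4, z5⟩) z1 (by simp)
  simp only [fixer, inf_top_eq, List.length_cons, List.length_nil] at s1 s2 s3 s4 s5
  simp only [pts, fixer, inf_top_eq] at h5
  omega

theorem card_CZ : Nat.card CZ = 190080 := by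
  refine le_antisymm card_CZ_le ?_
  have h := cen_gens
  simp only [Bool.and_eq_true, Nat.beq_eq, List.all_eq_true] at h
  refine (h.1 ▸ light_card_le cen_light).trans (Subgroup.card_le_of_le ((Subgroup.closure_le _).2 fun τ hτ => ?_))
  obtain ⟨g, hg, rfl⟩ := List.mem_map.1 hτ
  obtain ⟨hm, hf⟩ := inGroup_spec (h.2 g hg).1
  exact mem_CZ.2 ⟨hm, (intertw_iff hf zM_spec.2 zM_spec.2).1 (h.2 g hg).2⟩

theorem sylCen_le : genGroup 9 276 sylCenGens ≤ CZ := by
  refine (Subgroup.closure_le _).2 fun τ hτ => ?_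
  obtain ⟨g, hg, rfl⟩ := List.mem_map.1 hτ
  have h := sylCen_gens
  simp only [Bool.and_eq_true, List.all_eq_true] at h
  obtain ⟨hm, hf⟩ := inGroup_spec (h.2 g hg).1
  exact mem_CZ.2 ⟨hm, (intertw_iff hf zM_spec.2 zM_spec.2).1 (h.2 g hg).2⟩

theorem card_sylCen : Nat.card (genGroup 9 276 sylCenGens) = 2 ^ 7 := by
  have h := sylCen_gens
  simp only [Bool.and_eq_true, Nat.beq_eq] at h
  rw [cert_card sylCen_cert, h.1]; norm_num

/-- A conjugate in the Sylow subgroup of the centraliser, with its test. -/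
theorem cen_conj {P : Subgroup Pm} (hP : IsPGroup 2 P) (hle : P ≤ CZ) :
    ∃ a ∈ CZ, ∀ σ ∈ P, ∃ c e, Fwd 9 (c, a * σ * a⁻¹) ∧
      cenTest (prods sylCenLevels (idCode 9 276)) c e = true ∧ c ∈ prods sylCenLevels (idCode 9 276) := by
  haveI : Fact (Nat.Prime 2) := ⟨Nat.prime_two⟩
  obtain ⟨a, ha, haS⟩ := exists_conj_into sylCen_le hle hP (n := 7) (r := 1485) card_sylCen
    (by rw [card_CZ]; norm_num) (by norm_num)
  refine ⟨a, ha, fun σ hσ => ?_⟩
  obtain ⟨c, hc, hf⟩ := exists_prod sylCen_light (cert_card sylCen_cert) (haS σ hσ)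
  have hok := sylCen_ok
  simp only [Bool.and_eq_true, Nat.beq_eq] at hok
  obtain ⟨e, he⟩ := exists_zip hok.1 hc
  exact ⟨c, e, hf, List.all_eq_true.1 hok.2 _ he, hc⟩

theorem zM_conj {a : Pm} (ha : a ∈ CZ) : a * zM * a⁻¹ = zM := by
  rw [(mem_CZ.1 ha).2, mul_inv_cancel_right]

/-- The central involution is no square in its centraliser. -/
theorem sq_ne_zM {σ : Pm} (hσ : σ ∈ CZ) : σ * σ ≠ zM := by
  intro h
  have hp : IsPGroup 2 (Subgroup.zpowers σ) := by
    rintro ⟨g, i, rfl⟩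
    refine ⟨2, Subtype.ext ?_⟩
    show (σ ^ i) ^ (2 ^ 2) = 1
    rw [show (2 : ℕ) ^ 2 = 4 by norm_num, show (σ ^ i) ^ 4 = (σ ^ (4 : ℕ)) ^ i by
      rw [← zpow_natCast, ← zpow_mul, mul_comm, zpow_mul, zpow_natCast],
      show σ ^ 4 = σ * σ * (σ * σ) by simp [pow_succ, mul_assoc], h, zM_sq, one_zpow]
  obtain ⟨a, ha, hall⟩ := cen_conj hp (Subgroup.zpowers_le.2 hσ)
  obtain ⟨c, e, hf, ht, -⟩ := hall σ (Subgroup.mem_zpowers σ)
  simp only [cenTest, Bool.and_eq_true, List.any_eq_true, List.mem_range, Bool.not_eq_true'] at ht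
  obtain ⟨⟨i, hi, hne⟩, -⟩ := ht
  have e1 : a * σ * a⁻¹ * (a * σ * a⁻¹) = zM := by rw [conj_mul, h, zM_conj ha]
  rw [show get 9 c i = ((a * σ * a⁻¹) ⟨i, hi⟩ : ℕ) from hf ⟨i, hi⟩,
    show get 9 c ((a * σ * a⁻¹) ⟨i, hi⟩ : ℕ) = ((a * σ * a⁻¹) ((a * σ * a⁻¹) ⟨i, hi⟩) : ℕ) from hf _,
    show get 9 zCode.1 i = (zM ⟨i, hi⟩ : ℕ) from zM_spec.2 ⟨i, hi⟩, ← Equiv.Perm.mul_apply, e1] at hne
  simp at hne

/-- **The involutions of the centraliser.** -/
theorem cen_cases {σ : Pm} (hσ : σ ∈ CZ) (h2 : σ * σ = 1) (h1 : σ ≠ 1) (hz : σ ≠ zM) :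
    IsA σ ∨ IsA (σ * zM) ∨ ∃ c ∈ CZ, c * σ * c⁻¹ = mM ∨ c * σ * c⁻¹ = mM * zM := by
  obtain ⟨a, ha, hall⟩ := cen_conj (invOrder h2) (Subgroup.zpowers_le.2 hσ)
  obtain ⟨c, e, hf, ht, -⟩ := hall σ (Subgroup.mem_zpowers σ)
  have hz2 : σ * zM * (σ * zM) = 1 := by
    calc _ = σ * (zM * σ) * zM := by group
      _ = σ * (σ * zM) * zM := by rw [(mem_CZ.1 hσ).2]
      _ = σ * σ * (zM * zM) := by group
      _ = 1 := by rw [h2, zM_sq, one_mul]
  simp only [cenTest, Bool.and_eq_true, Bool.or_eq_true, Bool.not_eq_true', Nat.beq_eq] at ht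
  rcases ht.2 with ((((h | h) | h) | h) | h) | ⟨⟨⟨hin, hcz⟩, h⟩, -⟩
  · rw [(invOK_iff hf).2 (by rw [conj_mul, h2]; group)] at h; simp at h
  · exact absurd (conj_eq_one_iff.1 ((sameCode_iff hf fwd_one).1 h)) h1
  · refine absurd ?_ hz
    have e' := (sameCode_iff hf zM_spec.2).1 h
    rw [← zM_conj ha] at e'
    exact mul_left_cancel (mul_right_cancel e')
  · refine Or.inl ⟨h2, ?_⟩
    rw [← nFix_conj σ a, ← fixCount_eq hf, h]
  · refine Or.inr (Or.inl ⟨hz2, ?_⟩)
    have e' : a * σ * a⁻¹ * zM = a * (σ * zM) * a⁻¹ := by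
      conv_lhs => rw [← zM_conj ha]
      group
    rw [← nFix_conj _ a, ← e', ← fixCount_eq (fwd_mul hf zM_spec.2), h]
  · obtain ⟨hk, hfk⟩ := inGroup_spec hin
    have hkC := mem_CZ.2 ⟨hk, (intertw_iff hfk zM_spec.2 zM_spec.2).1 hcz⟩
    refine Or.inr (Or.inr ⟨_, mul_mem hkC ha, ?_⟩)
    rcases h with h | h
    · left
      rw [mul_inv_eq_iff_eq_mul, ← mul_assoc, ← (intertw_iff hfk hf mM_spec.2).1 h]
      group
    · right
      rw [mul_inv_eq_iff_eq_mul, ← mul_assoc (mM * zM), ← (intertw_iff hfk hf mz_fwd).1 h]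
      group

/-- The centraliser of the two involutions. -/
noncomputable def CV : Subgroup Pm := CZ ⊓ Subgroup.centralizer {mM}

theorem mem_CV {g : Pm} : g ∈ CV ↔ g ∈ CZ ∧ g * mM = mM * g := by
  rw [CV, Subgroup.mem_inf, Subgroup.mem_centralizer_singleton_iff]

theorem pair_le : genGroup 9 276 pairGens ≤ CV := by
  refine (Subgroup.closure_le _).2 fun τ hτ => ?_
  obtain ⟨g, hg, rfl⟩ := List.mem_map.1 hτ
  have h := pair_gens
  simp only [Bool.and_eq_true, List.all_eq_true] at h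
  obtain ⟨⟨hin, hz⟩, hm⟩ := h.2 g hg
  obtain ⟨hk, hf⟩ := inGroup_spec hin
  exact mem_CV.2 ⟨mem_CZ.2 ⟨hk, (intertw_iff hf zM_spec.2 zM_spec.2).1 hz⟩,
    (intertw_iff hf mM_spec.2 mM_spec.2).1 hm⟩

theorem card_pair : Nat.card (genGroup 9 276 pairGens) = 480 := by
  have h := pair_gens
  simp only [Bool.and_eq_true, Nat.beq_eq] at h
  rw [cert_card pair_cert, h.1]

theorem card_CV_le : Nat.card CV ≤ 960 := by
  have h4 : Nat.card ↥(CV ⊓ fixer pts.tail) ≤ 8 := by
    refine card_le_countP (fun g hg => ?_) (Nat.le_of_ble_eq_true four_bound)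
    have hbo := big_order
    simp only [Bool.and_eq_true] at hbo
    obtain ⟨hgz, hgm⟩ := mem_CV.1 hg.1
    obtain ⟨c, hc, hf⟩ := exists_big (mem_CZ.1 hgz).1 4 pts.tail (mem_fixer.1 hg.2)
      (any_of_take hbo.2 fun x hx => by
        rw [basePts_eq] at hx
        simp only [List.take_succ_cons, List.take_zero, List.mem_cons, List.not_mem_nil, or_false] at hx
        rcases hx with rfl | rfl | rfl | rfl <;> exact ⟨⟨_, by norm_num⟩, by simp [pts], rfl⟩)
    refine ⟨c, hc, hf, ?_⟩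
    rw [Bool.and_eq_true]
    exact ⟨(intertw_iff hf zM_spec.2 zM_spec.2).2 (mem_CZ.1 hgz).2, (intertw_iff hf mM_spec.2 mM_spec.2).2 hgm⟩
  have hz := pts_fix
  simp only [pts, List.forall_mem_cons, List.not_mem_nil, false_imp_iff, implies_true, and_true] at hz
  obtain ⟨-, -, z3, z4, z5⟩ := hz
  have hle : CV ≤ CZ := inf_le_left
  have s5 := step_CZ hle (l := []) List.nodup_nil (by simp) z5 (by simp)
  have s3 := step_CZ hle (l := [(⟨33, by norm_num⟩ : Fin 276), (⟨29, by norm_num⟩ : Fin 276)]) (by simp) (by simp only [List.forall_mem_cons, List.not_mem_nil, false_imp_iff, implies_true, and_true]; exact ⟨z4, z5⟩) z3 (by simp)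
  have pull : ∀ (b b' : Fin 276) (l : List (Fin 276)), mM b = b' → CV ⊓ fixer (b :: l) = CV ⊓ fixer (b' :: b :: l) := by
    intro b b' l e
    refine le_antisymm (fun g hg => ⟨hg.1, mem_fixer.2 (List.forall_mem_cons.2 ⟨?_, mem_fixer.1 hg.2⟩)⟩)
      (fun g hg => ⟨hg.1, mem_fixer.2 fun i hi => mem_fixer.1 hg.2 i (List.mem_cons_of_mem _ hi)⟩)
    rw [← e, ← Equiv.Perm.mul_apply, (mem_CV.1 hg.1).2, Equiv.Perm.mul_apply,
      mem_fixer.1 hg.2 b List.mem_cons_self]
  rw [pull _ _ _ mM_base.1] at s5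
  rw [pull _ _ _ mM_base.2] at s3
  simp only [fixer, inf_top_eq, List.length_cons, List.length_nil] at s3 s5
  simp only [pts, List.tail_cons, fixer, inf_top_eq] at h4
  omega

theorem card_CV : Nat.card CV = 480 := by
  have h480 : 480 ∣ Nat.card CV := card_pair ▸ Subgroup.card_dvd_of_le pair_le
  obtain ⟨k, hk⟩ := h480
  have hk2 : k = 1 ∨ k = 2 := by
    have := card_CV_le
    have := Nat.card_pos (α := CV)
    omega
  rcases hk2 with rfl | rfl
  · omega
  exfalso
  haveI : Fact (Nat.Prime 2) := ⟨Nat.prime_two⟩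
  have hmC : mM ∈ CV := mem_CV.2 ⟨mem_CZ.2 ⟨mM_spec.1, mz_comm⟩, rfl⟩
  obtain ⟨P, hP⟩ := ((invOrder mM_sq).of_equiv
    (Subgroup.subgroupOfEquivOfLe (Subgroup.zpowers_le.2 hmC)).symm).exists_le_sylow
  have hP6 : Nat.card (P : Subgroup CV) = 2 ^ 6 := by
    rw [P.card_eq_multiplicity, hk, show (480 * 2 : ℕ) = 2 ^ 6 * 15 by norm_num,
      Nat.factorization_mul (by norm_num) (by norm_num), Finsupp.add_apply,
      Nat.Prime.factorization_pow Nat.prime_two, Finsupp.single_eq_same,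
      Nat.factorization_eq_zero_of_not_dvd (by norm_num : ¬ 2 ∣ 15), add_zero]
  let Q : Subgroup Pm := (P : Subgroup CV).map CV.subtype
  have hQ : Nat.card Q = 64 := by rw [Subgroup.card_map_of_injective CV.subtype_injective, hP6]; norm_num
  have hmQ : mM ∈ Q := ⟨⟨mM, hmC⟩, hP (Subgroup.mem_subgroupOf.2 (Subgroup.mem_zpowers mM)), rfl⟩
  obtain ⟨a, ha, hall⟩ := cen_conj (P.2.map CV.subtype)
    (fun x hx => by obtain ⟨d, -, rfl⟩ := Subgroup.mem_map.1 hx; exact (mem_CV.1 d.2).1)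
  obtain ⟨c, e, hf, ht, -⟩ := hall mM hmQ
  simp only [cenTest, Bool.and_eq_true, Bool.or_eq_true, Bool.not_eq_true', Nat.beq_eq, Nat.blt_eq] at ht
  rcases ht.2 with ((((h | h) | h) | h) | h) | ⟨-, hcount⟩
  · rw [(invOK_iff hf).2 (by rw [conj_mul, mM_sq]; group)] at h; simp at h
  · have := conj_eq_one_iff.1 ((sameCode_iff hf fwd_one).1 h)
    have h1 := mM_fix
    rw [this, nFix, Nat.card_congr (Equiv.subtypeUnivEquiv (p := fun i : Fin 276 => (1 : Pm) i = i) fun i => rfl),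
      Nat.card_fin] at h1
    omega
  · have e' := (sameCode_iff hf zM_spec.2).1 h
    rw [← zM_conj ha] at e'
    have := mz_fix
    rw [mul_left_cancel (mul_right_cancel e'), zM_sq, nFix, Nat.card_congr (Equiv.subtypeUnivEquiv
      (p := fun i : Fin 276 => (1 : Pm) i = i) fun i => rfl), Nat.card_fin] at this
    omega
  · rw [fixCount_eq hf, nFix_conj, mM_fix] at h; omega
  · rw [fixCount_eq (fwd_mul hf zM_spec.2)] at h
    have e' : a * mM * a⁻¹ * zM = a * (mM * zM) * a⁻¹ := by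
      conv_lhs => rw [← zM_conj ha]
      group
    rw [e', nFix_conj, mz_fix] at h
    omega
  · have hle : Nat.card Q ≤ (prods sylCenLevels (idCode 9 276)).countP fun r => intertw r c c := by
      refine (Nat.card_congr (Subgroup.equivMapOfInjective Q (MulAut.conj a).toMonoidHom
        (MulAut.conj a).injective).toEquiv).trans_le (card_le_countP (fun g hg => ?_) le_rfl)
      obtain ⟨σ, hσ, rfl⟩ := Subgroup.mem_map.1 hg
      obtain ⟨c', -, hf', -, hc'⟩ := hall σ hσ
      refine ⟨c', hc', hf', (intertw_iff hf' hf hf).2 ?_⟩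
      obtain ⟨d, -, rfl⟩ := Subgroup.mem_map.1 hσ
      simp only [MulEquiv.coe_toMonoidHom, MulAut.conj_apply, conj_mul]
      exact congrArg (fun w => a * w * a⁻¹) (mem_CV.1 d.2).2
    omega

theorem pair_eq : genGroup 9 276 pairGens = CV :=
  Subgroup.eq_of_le_of_card_ge pair_le (by rw [card_CV, card_pair])

theorem exists_pair {g : Pm} (hg : g ∈ CV) : ∃ c ∈ prods pairLevels (idCode 9 276), Fwd 9 (c, g) :=
  exists_prod pair_light (cert_card pair_cert) (pair_eq ▸ hg)

theorem card_CVY_le : Nat.card ↥(CV ⊓ Subgroup.centralizer {yM}) ≤ 32 := by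
  refine card_le_countP (fun g hg => ?_) (Nat.le_of_ble_eq_true pair_count)
  obtain ⟨c, hc, hf⟩ := exists_pair hg.1
  exact ⟨c, hc, hf, (intertw_iff hf yM_spec.2 yM_spec.2).2 (Subgroup.mem_centralizer_singleton_iff.1 hg.2)⟩

theorem fwd_word {a b c d : ℕ} {α β γ δ : Pm} (ha : Fwd 9 (a, α)) (hb : Fwd 9 (b, β)) (hc : Fwd 9 (c, γ))
    (hd : Fwd 9 (d, δ)) {K : Subgroup Pm} (hα : α ∈ K) (hβ : β ∈ K) (hγ : γ ∈ K) (hδ : δ ∈ K) :
    ∀ l : List ℕ, ∃ σ ∈ K, Fwd 9 (wordAt a b c d l, σ)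
  | [] => ⟨1, one_mem _, by rw [wordAt_nil]; exact fwd_one⟩
  | [k] => by
    rw [wordAt_single]
    cases Nat.beq k 0
    · cases Nat.beq k 1
      · cases Nat.beq k 2
        · exact ⟨δ, hδ, hd⟩
        · exact ⟨γ, hγ, hc⟩
      · exact ⟨β, hβ, hb⟩
    · exact ⟨α, hα, ha⟩
  | k :: k' :: l => by
    obtain ⟨σ, hσ, hf⟩ := fwd_word ha hb hc hd hα hβ hγ hδ (k' :: l)
    rw [wordAt_cons]
    cases Nat.beq k 0
    · cases Nat.beq k 1
      · cases Nat.beq k 2
        · exact ⟨δ * σ, mul_mem hδ hσ, fwd_mul hd hf⟩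
        · exact ⟨γ * σ, mul_mem hγ hσ, fwd_mul hc hf⟩
      · exact ⟨β * σ, mul_mem hβ hσ, fwd_mul hb hf⟩
    · exact ⟨α * σ, mul_mem hα hσ, fwd_mul ha hf⟩

theorem fiveSet_length : fiveSet.length = 20 := by unfold fiveSet; rfl

/-- **The bound for a subgroup without involutions with thirty-six fixed points.** -/
theorem free_small {D : Subgroup Pm} (hD : D ≤ CV) (hz : zM ∈ D) (hm : mM ∈ D) (hfree : ∀ σ ∈ D, ¬ IsA σ) :
    Nat.card D < 60 := by
  classical
  by_contra hlt
  push Not at hlt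
  have hdvd : Nat.card D ∣ 480 := card_CV ▸ Subgroup.card_dvd_of_le hD
  by_cases h5 : 5 ∣ Nat.card D
  · haveI : Fact (Nat.Prime 5) := ⟨by norm_num⟩
    obtain ⟨d, hd⟩ := exists_prime_orderOf_dvd_card' 5 h5
    rw [← Subgroup.orderOf_coe] at hd
    have hfC : fM ∈ CV := mem_CV.2 ⟨mem_CZ.2 ⟨fM_spec.1, fz_comm⟩, fm_comm⟩
    obtain ⟨a, ha, hall⟩ := exists_conj_into (K := CV) (S := Subgroup.zpowers fM) (P := Subgroup.zpowers (d : Pm))
      (Subgroup.zpowers_le.2 hfC) (Subgroup.zpowers_le.2 (hD d.2))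
      (IsPGroup.of_card (n := 1) (by rw [Nat.card_zpowers, hd, pow_one])) (n := 1) (r := 96)
      (by rw [Nat.card_zpowers, orderOf_fM, pow_one]) (by rw [card_CV]; norm_num) (by norm_num)
    let D' : Subgroup Pm := D.map (MulAut.conj a).toMonoidHom
    have hD' : D' ≤ CV := by
      rintro _ ⟨x, hx, rfl⟩
      exact mul_mem (mul_mem ha (hD hx)) (inv_mem ha)
    have hfD : fM ∈ D' := by
      have hle : Subgroup.zpowers (a * (d : Pm) * a⁻¹) ≤ Subgroup.zpowers fM :=
        Subgroup.zpowers_le.2 (hall _ (Subgroup.mem_zpowers _))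
      have heq : Subgroup.zpowers (a * (d : Pm) * a⁻¹) = Subgroup.zpowers fM :=
        Subgroup.eq_of_le_of_card_ge hle (by
          rw [Nat.card_zpowers, Nat.card_zpowers, orderOf_fM,
            show a * (d : Pm) * a⁻¹ = MulAut.conj a d from rfl, MulEquiv.orderOf_eq, hd])
      exact Subgroup.zpowers_le.2 (show a * (d : Pm) * a⁻¹ ∈ D' from ⟨d, d.2, rfl⟩)
        (heq ▸ Subgroup.mem_zpowers fM)
    obtain ⟨haz, ham⟩ := mem_CV.1 ha
    have hzD : zM ∈ D' := ⟨zM, hz, by show a * zM * a⁻¹ = zM; exact zM_conj haz⟩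
    have hmD : mM ∈ D' := ⟨mM, hm, by show a * mM * a⁻¹ = mM; rw [ham, mul_inv_cancel_right]⟩
    have key : ∀ β : D', ∃ c ∈ fiveSet, ∃ b, Fwd 9 (b, β.1) ∧ sameCode b c = true := by
      intro β
      obtain ⟨b, hb, hf⟩ := exists_pair (hD' β.2)
      have h := List.all_eq_true.1 hit_ok b hb
      simp only [hitTest, Bool.or_eq_true, List.any_eq_true] at h
      rcases h with ⟨c, hc, h⟩ | ⟨w, -, h⟩
      · exact ⟨c, hc, b, hf, h⟩
      · exfalso
        obtain ⟨σ, hσ, hfσ⟩ := fwd_word fM_spec.2 hf zM_spec.2 mM_spec.2 hfD β.2 hzD hmD w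
        obtain ⟨x, hx, rfl⟩ := Subgroup.mem_map.1 hσ
        refine hfree x hx ?_
        have hA := isA_conj ((isAOK_iff hfσ).1 h) a⁻¹
        rwa [MulEquiv.coe_toMonoidHom, MulAut.conj_apply, show a⁻¹ * (a * x * a⁻¹) * a⁻¹⁻¹ = x by group] at hA
    choose c hc b hb hs using key
    have h20 : Nat.card D' ≤ 20 := by
      refine (Nat.card_le_card_of_injective (fun β => (⟨c β, List.mem_toFinset.2 (hc β)⟩ :
        {x // x ∈ fiveSet.toFinset})) fun β β' e => ?_).trans ?_
      · refine Subtype.ext (eq_of_codes (hb β) (hb β') fun i hi => ?_)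
        have h1 := hs β
        have h2 := hs β'
        simp only [sameCode, List.all_eq_true, List.mem_range, Nat.beq_eq] at h1 h2
        rw [h1 i hi, h2 i hi, show c β = c β' from Subtype.ext_iff.1 e]
      · rw [Nat.card_eq_fintype_card, Fintype.card_coe]
        exact (List.toFinset_card_le _).trans fiveSet_length.le
    have : Nat.card D' = Nat.card D := Subgroup.card_map_of_injective (MulAut.conj a).injective
    omega
  · haveI : Fact (Nat.Prime 2) := ⟨Nat.prime_two⟩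
    have h96 : Nat.card D = 96 := by
      have : ∀ q ∈ Nat.divisors 480, q < 60 ∨ 5 ∣ q ∨ q = 96 := by decide +kernel
      rcases this _ (Nat.mem_divisors.2 ⟨hdvd, by norm_num⟩) with h | h | h
      · omega
      · exact absurd h h5
      · exact h
    obtain ⟨Q, hQ⟩ := Sylow.exists_subgroup_card_pow_prime (G := D) 2 (n := 5) (by rw [h96]; norm_num)
    obtain ⟨a, ha, hall⟩ := exists_conj_into (K := CV) (S := Q.map D.subtype) (P := Subgroup.zpowers yM)
      (fun x hx => by obtain ⟨q, -, rfl⟩ := Subgroup.mem_map.1 hx; exact hD q.2)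
      (Subgroup.zpowers_le.2 (mem_CV.2 ⟨mem_CZ.2 ⟨yM_spec.1, yz_comm⟩, ym_comm⟩)) (invOrder yM_isA.1)
      (n := 5) (r := 15) (by rw [Subgroup.card_map_of_injective D.subtype_injective, hQ])
      (by rw [card_CV]; norm_num) (by norm_num)
    obtain ⟨q, -, hq⟩ := Subgroup.mem_map.1 (hall yM (Subgroup.mem_zpowers _))
    exact hfree (a * yM * a⁻¹) (hq ▸ q.2) (isA_conj yM_isA a)

end Cfsg.Agent.CoThreeInvol
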